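import Groth.Agent.Sga7.H762.NearbyCI
import Groth.Agent.Sga2lef.H107.Punct
import Groth.Agent.Sga7.H752.BaseExtHens
import Groth.Prelude.Def_EtDepth

/-!
# Nearby cycles at an isolated non-smooth point from étale depth
-/

set_option autoImplicit false
universe u

open CategoryTheory CategoryTheory.Limits AlgebraicGeometry IsLocalRing Opposite
open scoped TensorProduct

namespace Groth.Agent.Sga7.H762.NearbyDepth

open FinDVR Geom GenAcyc NearbyRed NearbyCI Groth.Agent.Sga7.H752.BaseExt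

/-- The cohomology of the punctured spectrum of a strictly henselian ring of étale depth `≥ n + 2`. -/
theorem punctured_of_depthGE (R : Type u) [CommRing R] [HenselianLocalRing R] [IsSepClosed (ResidueField R)]
    (m n : ℕ) (h : EtDepth.DepthGE (FEt.puncturedSpec R).ι (EtCoh.const (Spec (CommRingCat.of R)) (ZMod m)) (n + 2)) :
    (∀ i : ℕ, 0 < i → i ≤ n → Subsingleton (EtCoh.H (FEt.puncturedSpec R : Scheme.{u})
      (EtCoh.const (FEt.puncturedSpec R : Scheme.{u}) (ZMod m)) i)) ∧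
      Nonempty (EtCoh.H (FEt.puncturedSpec R : Scheme.{u})
        (EtCoh.const (FEt.puncturedSpec R : Scheme.{u}) (ZMod m)) 0 ≃+ ZMod m) := by
  have := Groth.Agent.S0101.result (FEt.puncturedSpec R).ι
  have h1 := (Groth.Agent.Etbc.H234.LerayRange.Hpull_range_of_isIso_unit (FEt.puncturedSpec R).ι _ n
    (Groth.Agent.Sga2lef.H107.Punct.isIso_unit_of_depthGE _ h)
    (fun q h1 h2 => Groth.Agent.Sga2lef.H107.Punct.isZero_Rpush_of_depthGE _ h q h1 h2)).1
  have e : ∀ i, i ≤ n → (EtCoh.H (Spec (CommRingCat.of R)) (EtCoh.const (Spec (CommRingCat.of R)) (ZMod m)) i ≃+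
      EtCoh.H (FEt.puncturedSpec R : Scheme.{u}) (EtCoh.const (FEt.puncturedSpec R : Scheme.{u}) (ZMod m)) i) :=
    fun i hi => (AddEquiv.ofBijective _ (h1 i hi)).trans
      (Groth.Agent.Etrest.IsoInv.HCongr (EtCore.pullConst (FEt.puncturedSpec R).ι (ZMod m)) i)
  obtain ⟨h2, ⟨h3⟩⟩ := hpt_strictlyHenselian R m
  refine ⟨fun i hi hin => ?_, ⟨(e 0 (Nat.zero_le n)).symm.trans h3⟩⟩
  have := h2 i hi
  exact (e i hin).symm.toEquiv.subsingleton

section

variable (V K Ω : Type u) [CommRing V] [IsDomain V] [IsDiscreteValuationRing V] [HenselianLocalRing V]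
    [IsSepClosed (ResidueField V)] [CharZero (ResidueField V)]
    [Field K] [Algebra V K] [IsFractionRing V K]
    [Field Ω] [Algebra K Ω] [IsSepClosure K Ω] [Algebra V Ω] [IsScalarTower V K Ω]
    {X : Scheme.{u}} (f : X ⟶ Spec (CommRingCat.of V)) [Flat f] [LocallyOfFinitePresentation f]
    (x : X) (hx : f.base x = closedPoint V)
    (U : X.Opens) (hxU : x ∈ U)
    (hisol : ∀ y : X, y ∈ U → f.base y = closedPoint V → y ≠ x → y ∈ f.smoothLocus)
    (Osh : Type u) [CommRing Osh] [IsLocalRing Osh] [Algebra (X.presheaf.stalk x) Osh]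
    [IsLocalHom (algebraMap (X.presheaf.stalk x) Osh)] [Hensel.IsStrictHenselization (X.presheaf.stalk x) Osh]
    [Algebra V Osh]
    (hVO : Spec.map (CommRingCat.ofHom (algebraMap V Osh)) = Hens2.specOf X x Osh ≫ f)

include K hx hxU hisol hVO

/-- The nearby fibre in degrees `< n` from the étale depth of the strict localizations after totally ramified base
extension. -/
theorem main (n : ℕ)
    (h : ∀ (V' : Type u) [CommRing V'] [IsDomain V'] [IsDiscreteValuationRing V'] [Algebra V V']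
      (_ : TotRam V V') [IsLocalRing (Osh ⊗[V] V')] (m : ℕ), 0 < m →
      EtDepth.DepthGE (FEt.puncturedSpec (Osh ⊗[V] V')).ι
        (EtCoh.const (Spec (CommRingCat.of (Osh ⊗[V] V'))) (ZMod m)) (n + 1)) :
    (∀ m : ℕ, 0 < m → ∀ i : ℕ, 0 < i → i < n → Subsingleton (EtCoh.H (SGA7.nearbyFibre f x Osh Ω)
      (EtCoh.const (SGA7.nearbyFibre f x Osh Ω) (ZMod m)) i)) ∧
      (0 < n → ConnectedSpace ↥(SGA7.nearbyFibre f x Osh Ω)) := by
  have hs : Hensel.IsStrictHenselization (X.presheaf.stalk x) Osh := inferInstance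
  have hO1 : HenselianLocalRing Osh := hs.henselian
  have hO2 : IsSepClosed (ResidueField Osh) := hs.isSepClosure.sep_closed
  have hVOsh := isLocalHom_of_specOf f x Osh hVO hx
  refine ⟨fun m hm i hi hin => ?_, fun hn => ?_⟩
  · obtain ⟨k, rfl⟩ : ∃ k, n = k + 1 := ⟨n - 1, by omega⟩
    refine NearbyCI.subsingleton_H V K Ω f x hx U hxU hisol Osh hVO m hm i ?_
    intro V' _ _ _ _ ht _
    have h1 : HenselianLocalRing (Osh ⊗[V] V') := H752.BaseExtHens.henselian_tensor Osh ht
    have h2 : IsSepClosed (ResidueField (Osh ⊗[V] V')) := H752.BaseExtHens.isSepClosed_tensor Osh ht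
    exact (punctured_of_depthGE (Osh ⊗[V] V') m k (h V' ht m hm)).1 i hi (by omega)
  · obtain ⟨k, rfl⟩ : ∃ k, n = k + 1 := ⟨n - 1, by omega⟩
    refine NearbyCI.connectedSpace V K Ω f x hx U hxU hisol Osh hVO ?_
    intro V' _ _ _ _ ht _
    have h1 : HenselianLocalRing (Osh ⊗[V] V') := H752.BaseExtHens.henselian_tensor Osh ht
    have h2 : IsSepClosed (ResidueField (Osh ⊗[V] V')) := H752.BaseExtHens.isSepClosed_tensor Osh ht
    exact (Groth.Agent.Etbc.H225.ConnOfH0.connectedSpace_of_H0 _ (ZMod 2)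
      (punctured_of_depthGE (Osh ⊗[V] V') 2 k (h V' ht 2 two_pos)).2).2

end

end Groth.Agent.Sga7.H762.NearbyDepth
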