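import Groth.Agent.Sga7.H747.NearbySmooth
import Groth.Agent.Sga7.H746.NearbyDim
import Groth.Agent.Sga7.H752.GenDim
import Groth.Agent.EtpbcA.CdExact

/-!
# Cohomological dimension of the nearby fibre at a closed point of the special fibre
-/

set_option autoImplicit false
universe u

open CategoryTheory CategoryTheory.Limits AlgebraicGeometry IsLocalRing

namespace Groth.Agent.Sga7.H762.NearbyHigh

/-- At a point which is closed in its fibre, the nearby fibre has cohomological dimension at most the dimension of the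
local ring of the special fibre. -/
theorem cohDimLE_nearbyFibre (V K Ω : Type u) [CommRing V] [IsLocalRing V]
    [Field K] [Algebra V K] [Field Ω] [Algebra K Ω] [Algebra.IsAlgebraic K Ω] [IsSepClosed Ω]
    [Algebra V Ω] [IsScalarTower V K Ω]
    {X : Scheme.{u}} (f : X ⟶ Spec (CommRingCat.of V)) [LocallyOfFiniteType f] (x : X)
    (hcl : IsClosed ({f.asFiber x} : Set (f.fiber (f x)))) (n : ℕ)
    (hdim : ringKrullDim ↑(CInt.fiberStalk f x) = n)
    (Osh : Type u) [CommRing Osh] [IsLocalRing Osh] [Algebra (X.presheaf.stalk x) Osh]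
    [IsLocalHom (algebraMap (X.presheaf.stalk x) Osh)] [Hensel.IsStrictHenselization (X.presheaf.stalk x) Osh] :
    EtCoh.CohDimLE (SGA7.nearbyFibre f x Osh Ω) n := by
  obtain ⟨U, hxU, hU⟩ := H752.GenDim.exists_open (K := K) f x hcl n hdim
  obtain ⟨algU, locU, shU, h⟩ := H747.NearbySmooth.exists_specOf_open U x hxU Osh
  have h1 := H746.NearbyDim.cohDimLE_nearbyFibre V K Ω (U.ι ≫ f) n hU ⟨x, hxU⟩ Osh
  have h2 : Spec.map (CommRingCat.ofHom (algebraMap ((U : Scheme.{u}).presheaf.stalk ⟨x, hxU⟩) Osh)) ≫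
      (U : Scheme.{u}).fromSpecStalk ⟨x, hxU⟩ ≫ U.ι ≫ f =
      Spec.map (CommRingCat.ofHom (algebraMap (X.presheaf.stalk x) Osh)) ≫ X.fromSpecStalk x ≫ f := by
    have h3 := congrArg (fun q => q ≫ f) h
    simpa only [Hens2.specOf, Category.assoc] using h3
  exact EtpbcA.CdExact.cohDimLE_of_iso (pullback.congrHom h2 rfl) n h1

end Groth.Agent.Sga7.H762.NearbyHigh
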