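import Groth.Agent.Sga7.H762.MidFree
import Groth.Prelude.Def_SGA7I
import Groth.Prelude.Def_Hensel
import Groth.Prelude.Def_CInt
import Mathlib.RingTheory.DiscreteValuationRing.Basic
import Mathlib.FieldTheory.IsSepClosed
import Mathlib.AlgebraicGeometry.Morphisms.Smooth

/-!
# Freeness of the middle vanishing cycle group from the vanishing theorem
-/

set_option autoImplicit false
universe u

open CategoryTheory CategoryTheory.Limits AlgebraicGeometry

namespace Groth.Agent.Sga7.H762.S4082Of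

/-- Freeness from the vanishing theorem (the form of `S4072` for the given data and all `m`). -/
theorem main {Y : Scheme.{u}} (ℓ ν : ℕ) (hℓ : ℓ.Prime) (hν : 0 < ν) (n : ℕ) (hn : 0 < n)
    (h : ∀ m : ℕ, 0 < m → (∀ i : ℕ, 0 < i → i ≠ n → Subsingleton (EtCoh.H Y (EtCoh.const Y (ZMod m)) i)) ∧
      Nonempty Y ∧ (0 < n → ConnectedSpace Y)) :
    ∃ I : Type (u + 1), Nonempty (EtCoh.H Y (EtCoh.const Y (ZMod (ℓ ^ ν))) n ≃+ (I →₀ ZMod (ℓ ^ ν))) := by
  have : ConnectedSpace Y := (h 1 one_pos).2.2 hn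
  exact MidFree.exists_addEquiv ℓ ν n hℓ hν hn fun a i hi hin => (h (ℓ ^ a) (pow_pos hℓ.pos a)).1 i hi hin

end Groth.Agent.Sga7.H762.S4082Of
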