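import Groth.Agent.Sga4h.UlaRing812
import Groth.Agent.Pi1A.FGLimit
import Mathlib.FieldTheory.IntermediateField.Adjoin.Algebra

/-!
# The finite DVR extensions of a henselian DVR inside an algebraic extension of its fraction field

`V` a henselian DVR, `Ω/K` separable algebraic. `Idx V Ω` is the directed set of the `V`-subalgebras of `Ω` which are
discrete valuation rings and finite over `V`; their union is the integral closure of `V` in `Ω`.
-/

set_option autoImplicit false
universe u

open CategoryTheory CategoryTheory.Limits AlgebraicGeometry IsLocalRing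

namespace Groth.Agent.Sga7.H762.FinDVR

open Groth.Agent.Sga4h.UlaRing812

/-- The subalgebras of `Ω` which are DVR's finite over `V`. -/
def Idx (V Ω : Type u) [CommRing V] [Field Ω] [Algebra V Ω] : Type u :=
  {B : Subalgebra V Ω // Module.Finite V B ∧ IsDiscreteValuationRing B}

instance (V Ω : Type u) [CommRing V] [Field Ω] [Algebra V Ω] : PartialOrder (Idx V Ω) :=
  inferInstanceAs (PartialOrder {B : Subalgebra V Ω // Module.Finite V B ∧ IsDiscreteValuationRing B})

theorem isIntegral_of_mem {V Ω : Type u} [CommRing V] [Field Ω] [Algebra V Ω] (B : Idx V Ω) {x : Ω} (hx : x ∈ B.1) :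
    IsIntegral V x := by
  have := B.2.1
  exact (Algebra.IsIntegral.isIntegral (R := V) (⟨x, hx⟩ : B.1)).map B.1.val

theorem le_integralClosure {V Ω : Type u} [CommRing V] [Field Ω] [Algebra V Ω] (B : Idx V Ω) :
    B.1 ≤ integralClosure V Ω := fun _ hx => isIntegral_of_mem B hx

section

variable (V K Ω : Type u) [CommRing V] [IsDomain V] [IsDiscreteValuationRing V] [HenselianLocalRing V]
  [Field K] [Algebra V K] [IsFractionRing V K] [Field Ω] [Algebra K Ω] [Algebra V Ω] [IsScalarTower V K Ω]

include K in
theorem isDiscreteValuationRing_integralClosure (E : Type u) [Field E] [Algebra K E] [Algebra V E]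
    [IsScalarTower V K E] [FiniteDimensional K E] [Algebra.IsSeparable K E] :
    IsDiscreteValuationRing (integralClosure V E) := by
  have h1 : IsDedekindDomain (integralClosure V E) := integralClosure.isDedekindDomain V K E
  have h2 : IsLocalRing (integralClosure V E) := isLocalRing V E
  have hinj : Function.Injective (algebraMap V (integralClosure V E)) := by
    have := faithfulSMul_integralClosure V K E
    exact FaithfulSMul.algebraMap_injective V (integralClosure V E)
  have h3 : ¬ IsField (integralClosure V E) := fun h =>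
    IsDiscreteValuationRing.not_isField V (isField_of_isIntegral_of_isField hinj h)
  exact ((IsDiscreteValuationRing.TFAE (integralClosure V E) h3).out 0 2).2 h1

/-- The integral closure of `V` in a finite subextension. -/
theorem exists_of_finiteDimensional [Algebra.IsSeparable K Ω] (E : IntermediateField K Ω)
    [FiniteDimensional K E] :
    ∃ B : Idx V Ω, ∀ x : Ω, x ∈ B.1 ↔ IsIntegral V x ∧ x ∈ E := by
  let φ : integralClosure V E →ₐ[V] Ω := (E.val.restrictScalars V).comp (integralClosure V E).val
  have hφ : Function.Injective φ := Subtype.val_injective.comp Subtype.val_injective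
  have hfin : Module.Finite V (integralClosure V E) := IsIntegralClosure.finite V K E (integralClosure V E)
  have hdvr := isDiscreteValuationRing_integralClosure V K E
  let e := AlgEquiv.ofInjective φ hφ
  refine ⟨⟨φ.range, Module.Finite.equiv e.toLinearEquiv, ?_⟩, fun x => ?_⟩
  · exact IsDiscreteValuationRing.RingEquivClass.isDiscreteValuationRing e
  · change x ∈ φ.range ↔ _
    rw [AlgHom.mem_range]
    constructor
    · rintro ⟨y, rfl⟩
      exact ⟨(y.2).map (E.val.restrictScalars V), (y : E).2⟩
    · rintro ⟨hx, hxE⟩
      refine ⟨⟨⟨x, hxE⟩, ?_⟩, rfl⟩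
      rw [mem_integralClosure_iff]
      exact (isIntegral_algHom_iff (E.val.restrictScalars V) Subtype.val_injective).1 hx

variable {V Ω}

omit [IsDomain V] [IsDiscreteValuationRing V] [HenselianLocalRing V] [IsFractionRing V K] in
/-- Members of `Idx V Ω` lie over a finite subextension. -/
theorem exists_field (B : Idx V Ω) [Algebra.IsAlgebraic K Ω] :
    ∃ E : IntermediateField K Ω, FiniteDimensional K E ∧ ∀ x ∈ B.1, x ∈ E := by
  obtain ⟨s, hs⟩ := B.2.1
  have hs' : Submodule.span V ((fun x : B.1 => (x : Ω)) '' (s : Set B.1)) = Subalgebra.toSubmodule B.1 := by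
    have := congrArg (Submodule.map B.1.val.toLinearMap) hs
    rw [Submodule.map_span, Submodule.map_top] at this
    refine this.trans ?_
    ext x
    simp
  refine ⟨IntermediateField.adjoin K ((fun x : B.1 => (x : Ω)) '' (s : Set B.1)), ?_, fun x hx => ?_⟩
  · have : Finite ((fun x : B.1 => (x : Ω)) '' (s : Set B.1)) := (s.finite_toSet.image _).to_subtype
    exact IntermediateField.finiteDimensional_adjoin fun x _ => Algebra.IsIntegral.isIntegral x
  · have h1 : x ∈ Submodule.span V ((fun x : B.1 => (x : Ω)) '' (s : Set B.1)) := by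
      rw [hs']; exact hx
    have h2 : Submodule.span V ((fun x : B.1 => (x : Ω)) '' (s : Set B.1)) ≤
        ((IntermediateField.adjoin K ((fun x : B.1 => (x : Ω)) '' (s : Set B.1))).toSubalgebra.toSubmodule.restrictScalars V) := by
      rw [Submodule.span_le]
      exact IntermediateField.subset_adjoin K _
    exact h2 h1

variable (V Ω)

include K in
theorem isDirected [Algebra.IsSeparable K Ω] : IsDirected (Idx V Ω) (· ≤ ·) := by
  refine ⟨fun B1 B2 => ?_⟩
  obtain ⟨E1, _, h1⟩ := exists_field (K := K) B1
  obtain ⟨E2, _, h2⟩ := exists_field (K := K) B2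
  obtain ⟨B, hB⟩ := exists_of_finiteDimensional V K Ω (E1 ⊔ E2)
  refine ⟨B, fun x hx => (hB x).2 ⟨isIntegral_of_mem B1 hx, ?_⟩, fun x hx => (hB x).2 ⟨isIntegral_of_mem B2 hx, ?_⟩⟩
  · exact (le_sup_left : E1 ≤ E1 ⊔ E2) (h1 x hx)
  · exact (le_sup_right : E2 ≤ E1 ⊔ E2) (h2 x hx)

include K in
theorem exists_mem [Algebra.IsSeparable K Ω] (x : integralClosure V Ω) : ∃ B : Idx V Ω, (x : Ω) ∈ B.1 := by
  have : FiniteDimensional K (IntermediateField.adjoin K {(x : Ω)}) :=
    IntermediateField.adjoin.finiteDimensional (Algebra.IsIntegral.isIntegral (x : Ω))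
  obtain ⟨B, hB⟩ := exists_of_finiteDimensional V K Ω (IntermediateField.adjoin K {(x : Ω)})
  exact ⟨B, (hB x).2 ⟨x.2, IntermediateField.subset_adjoin K _ rfl⟩⟩

end

section Lim

variable (V Ω : Type u) [CommRing V] [Field Ω] [Algebra V Ω]

/-- The diagram of the finite DVR extensions. -/
noncomputable def ringDiag : Idx V Ω ⥤ CommRingCat.{u} where
  obj B := CommRingCat.of B.1
  map {B C} h := CommRingCat.ofHom (Subalgebra.inclusion (leOfHom h)).toRingHom
  map_id B := by
    ext x
    rfl
  map_comp f g := by
    ext x
    rfl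

/-- The inclusions in the integral closure. -/
noncomputable def ringCocone : Cocone (ringDiag V Ω) where
  pt := CommRingCat.of (integralClosure V Ω)
  ι :=
    { app B := CommRingCat.ofHom (Subalgebra.inclusion (le_integralClosure B)).toRingHom
      naturality B C h := by
        ext x
        rfl }

/-- The integral closure is the colimit of the finite DVR extensions. -/
theorem nonempty_ringIsColimit [IsDirected (Idx V Ω) (· ≤ ·)] [Nonempty (Idx V Ω)]
    (hm : ∀ x : integralClosure V Ω, ∃ B : Idx V Ω, (x : Ω) ∈ B.1) :
    Nonempty (IsColimit (ringCocone V Ω)) := by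
  have : ReflectsColimitsOfShape (Idx V Ω) (forget CommRingCat.{u}) :=
    reflectsColimitsOfShape_of_reflectsIsomorphisms
  refine ⟨isColimitOfReflects (forget CommRingCat) ?_⟩
  refine Types.FilteredColimit.isColimitOf' _ _ ?_ ?_
  · intro (x : integralClosure V Ω)
    obtain ⟨B, hB⟩ := hm x
    exact ⟨B, ⟨x, hB⟩, rfl⟩
  · intro B x y hxy
    exact ⟨B, 𝟙 B, by
      have : x = y := Subtype.ext (congrArg (Subtype.val (p := fun z => z ∈ integralClosure V Ω)) hxy)
      rw [this]⟩

/-- The diagram of the spectra. -/
noncomputable def specDiag : (Idx V Ω)ᵒᵖ ⥤ Scheme.{u} := (ringDiag V Ω).op ⋙ Scheme.Spec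

/-- The cone over `specDiag` with point the spectrum of the integral closure. -/
noncomputable def specCone : Cone (specDiag V Ω) where
  pt := Spec (CommRingCat.of (integralClosure V Ω))
  π := { app := fun F => Spec.map ((ringCocone V Ω).ι.app F.unop)
         naturality := fun F G h => by
          refine (Category.id_comp _).trans ?_
          refine Eq.trans ?_ (Spec.map_comp _ _)
          exact congrArg (fun z => Spec.map z) ((ringCocone V Ω).w h.unop).symm }

/-- The map to `Spec V`. -/
noncomputable abbrev toBase (A : Type u) [CommRing A] [Algebra V A] :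
    Spec (CommRingCat.of A) ⟶ Spec (CommRingCat.of V) :=
  Spec.map (CommRingCat.ofHom (algebraMap V A))

/-- The structure map of `specDiag`. -/
noncomputable def specBase : specDiag V Ω ⟶ (Functor.const _).obj (Spec (CommRingCat.of V)) where
  app F := toBase V F.unop.1
  naturality F G h := by
    refine Eq.trans ?_ (Category.comp_id _).symm
    exact (Spec.map_comp _ _).symm

instance isAffineHom_specDiag_map {i j : (Idx V Ω)ᵒᵖ} (h : i ⟶ j) :
    IsAffineHom ((specDiag V Ω).map h) :=
  inferInstanceAs (IsAffineHom (Spec.map _))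

lemma specCone_base (F : (Idx V Ω)ᵒᵖ) :
    (specCone V Ω).π.app F ≫ (specBase V Ω).app F = toBase V (integralClosure V Ω) :=
  (Spec.map_comp (CommRingCat.ofHom (algebraMap V F.unop.1))
    (CommRingCat.ofHom (Subalgebra.inclusion (le_integralClosure F.unop)).toRingHom)).symm

end Lim

end Groth.Agent.Sga7.H762.FinDVR
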