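import Mathlib.Algebra.Module.ZMod
import Mathlib.LinearAlgebra.Basis.VectorSpace
import Mathlib.LinearAlgebra.Finsupp.LinearCombination
import Mathlib.Data.ZMod.Basic
import Mathlib.GroupTheory.QuotientGroup.Basic
import Mathlib.Algebra.Field.ZMod

/-!
# Freeness over `ℤ/ℓ^ν`

An abelian group `M` killed by `ℓ^ν` such that the kernel of `ℓ^a` is contained in `ℓ^b M` whenever `a + b = ν`
is a direct sum of copies of `ℤ/ℓ^ν`.
-/

set_option autoImplicit false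
universe u v

namespace Groth.Agent.Sga7.H762.FreeMod

/-- Elements of `ℤ/ℓ^ν` which vanish modulo `ℓ` are multiples of `ℓ`. -/
theorem exists_mul_of_cast_eq_zero {ℓ ν : ℕ} (hν : 0 < ν) [NeZero (ℓ ^ ν)] (d : ZMod (ℓ ^ ν))
    (h : ZMod.castHom (dvd_pow_self ℓ hν.ne') (ZMod ℓ) d = 0) : ∃ e : ZMod (ℓ ^ ν), d = (ℓ : ZMod (ℓ ^ ν)) * e := by
  have h1 : (d.val : ZMod ℓ) = 0 := by
    rw [← h, ZMod.castHom_apply, ZMod.natCast_val]
  rw [ZMod.natCast_eq_zero_iff] at h1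
  obtain ⟨e, he⟩ := h1
  refine ⟨(e : ZMod (ℓ ^ ν)), ?_⟩
  rw [← ZMod.natCast_zmod_val d, he, Nat.cast_mul]

/-- The freeness criterion, module form. -/
theorem exists_linearEquiv_finsupp (ℓ ν : ℕ) [Fact ℓ.Prime] [NeZero (ℓ ^ ν)] (hν : 0 < ν) (M Q : Type u)
    [AddCommGroup M] [AddCommGroup Q] [Module (ZMod (ℓ ^ ν)) M] [Module (ZMod ℓ) Q] (π : M →+ Q)
    (hπ : Function.Surjective π) (hker : ∀ x : M, π x = 0 ↔ ∃ y, x = ℓ • y)
    (hM : ∀ x : M, (ℓ ^ ν) • x = 0)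
    (h : ∀ a b : ℕ, a + b = ν → ∀ x : M, (ℓ ^ a) • x = 0 → ∃ y : M, x = (ℓ ^ b) • y) :
    ∃ I : Type u, Nonempty (M ≃ₗ[ZMod (ℓ ^ ν)] (I →₀ ZMod (ℓ ^ ν))) := by
  classical
  let I : Type u := Module.Basis.ofVectorSpaceIndex (ZMod ℓ) Q
  let B : Module.Basis I (ZMod ℓ) Q := Module.Basis.ofVectorSpace (ZMod ℓ) Q
  choose m hm using fun i : I => hπ (B i)
  let φ : (I →₀ ZMod (ℓ ^ ν)) →ₗ[ZMod (ℓ ^ ν)] M := Finsupp.linearCombination _ m
  have hsm : ∀ (c : ZMod (ℓ ^ ν)) (x : M),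
      π (c • x) = (ZMod.castHom (dvd_pow_self ℓ hν.ne') (ZMod ℓ) c) • π x := by
    intro c x
    have h1 : c • x = c.val • x := by
      conv_lhs => rw [← ZMod.natCast_zmod_val c]
      rw [Nat.cast_smul_eq_nsmul]
    rw [h1, map_nsmul, ZMod.castHom_apply, ← ZMod.natCast_val, Nat.cast_smul_eq_nsmul]
  have hφ : ∀ c : I →₀ ZMod (ℓ ^ ν), π (φ c) =
      Finsupp.linearCombination (ZMod ℓ) B
        (c.mapRange (ZMod.castHom (dvd_pow_self ℓ hν.ne') (ZMod ℓ)) (map_zero _)) := by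
    intro c
    rw [Finsupp.linearCombination_apply, Finsupp.linearCombination_apply, Finsupp.sum, map_sum,
      Finsupp.sum_mapRange_index (by simp), Finsupp.sum]
    exact Finset.sum_congr rfl fun i _ => by rw [hsm, ← hm i]
  -- surjectivity
  have hstep : ∀ x : M, ∃ (c : I →₀ ZMod (ℓ ^ ν)) (y : M), x = φ c + ℓ • y := by
    intro x
    let c0 := B.repr (π x)
    let c : I →₀ ZMod (ℓ ^ ν) := c0.mapRange (fun t : ZMod ℓ => ((t.val : ℕ) : ZMod (ℓ ^ ν))) (by simp)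
    have hc : c.mapRange (ZMod.castHom (dvd_pow_self ℓ hν.ne') (ZMod ℓ)) (map_zero _) = c0 := by
      ext i
      simp [c]
    obtain ⟨y, hy⟩ := (hker (x - φ c)).1 (by
      rw [map_sub, hφ, hc, Module.Basis.linearCombination_repr, sub_self])
    exact ⟨c, y, by rw [← hy, add_sub_cancel]⟩
  have hsurj : ∀ (k : ℕ) (x : M), ∃ (c : I →₀ ZMod (ℓ ^ ν)) (y : M), x = φ c + (ℓ ^ k) • y := by
    intro k
    induction k with
    | zero => exact fun x => ⟨0, x, by simp⟩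
    | succ k ih =>
      intro x
      obtain ⟨c, y, hx⟩ := ih x
      obtain ⟨c', y', hy⟩ := hstep y
      refine ⟨c + (ℓ ^ k) • c', y', ?_⟩
      rw [hx, hy, nsmul_add, map_add, map_nsmul, pow_succ, mul_smul, add_assoc]
  have hs : Function.Surjective φ := by
    intro x
    obtain ⟨c, y, hx⟩ := hsurj ν x
    exact ⟨c, by rw [hx, hM, add_zero]⟩
  -- injectivity
  have hinj : ∀ (c : I →₀ ZMod (ℓ ^ ν)), φ c = 0 → ∀ k ≤ ν, ∃ d : I →₀ ZMod (ℓ ^ ν), c = (ℓ ^ k) • d := by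
    intro c hc k
    induction k with
    | zero => exact fun _ => ⟨c, by simp⟩
    | succ k ih =>
      intro hk
      obtain ⟨d, hd⟩ := ih (by omega)
      rw [hd, map_nsmul] at hc
      obtain ⟨y, hy⟩ := h k (ν - k) (by omega) (φ d) hc
      have h1 : π (φ d) = 0 := by
        rw [hker, hy, show ν - k = (ν - k - 1) + 1 by omega, pow_succ', mul_smul]
        exact ⟨_, rfl⟩
      rw [hφ] at h1
      have h2 := (linearIndependent_iff.1 B.linearIndependent) _ h1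
      have h3 : ∀ i, ∃ e : ZMod (ℓ ^ ν), d i = (ℓ : ZMod (ℓ ^ ν)) * e := by
        intro i
        refine exists_mul_of_cast_eq_zero hν _ ?_
        have := DFunLike.congr_fun h2 i
        rwa [Finsupp.mapRange_apply] at this
      choose e he using h3
      let d' : I →₀ ZMod (ℓ ^ ν) := Finsupp.onFinset d.support (fun i => if i ∈ d.support then e i else 0)
        (by intro i hi; by_contra hn; simp [hn] at hi)
      refine ⟨d', ?_⟩
      rw [hd]
      ext i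
      by_cases hi : i ∈ d.support
      · simp only [Finsupp.smul_apply, d', Finsupp.onFinset_apply, if_pos hi]
        rw [he i, pow_succ, mul_smul]
        congr 1
        rw [nsmul_eq_mul]
      · simp only [Finsupp.smul_apply, d', Finsupp.onFinset_apply, if_neg hi]
        rw [Finsupp.notMem_support_iff.1 hi]
        simp
  have hi : Function.Injective φ := by
    rw [injective_iff_map_eq_zero]
    intro c hc
    obtain ⟨d, hd⟩ := hinj c hc ν le_rfl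
    rw [hd]
    ext i
    rw [Finsupp.smul_apply, nsmul_eq_mul, ZMod.natCast_self, zero_mul, Finsupp.zero_apply]
  exact ⟨I, ⟨(LinearEquiv.ofBijective φ ⟨hi, hs⟩).symm⟩⟩

/-- The freeness criterion. -/
theorem exists_addEquiv_finsupp (ℓ ν : ℕ) (hℓ : ℓ.Prime) (hν : 0 < ν) (M : Type u) [AddCommGroup M]
    (hM : ∀ x : M, (ℓ ^ ν) • x = 0)
    (h : ∀ a b : ℕ, a + b = ν → ∀ x : M, (ℓ ^ a) • x = 0 → ∃ y : M, x = (ℓ ^ b) • y) :
    ∃ I : Type u, Nonempty (M ≃+ (I →₀ ZMod (ℓ ^ ν))) := by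
  have : Fact ℓ.Prime := ⟨hℓ⟩
  have : NeZero (ℓ ^ ν) := ⟨(pow_pos hℓ.pos ν).ne'⟩
  let i1 : Module (ZMod (ℓ ^ ν)) M := AddCommGroup.zmodModule hM
  let N : AddSubgroup M := (nsmulAddMonoidHom (α := M) ℓ).range
  let i2 : Module (ZMod ℓ) (M ⧸ N) := AddCommGroup.zmodModule (by
    intro x
    obtain ⟨x, rfl⟩ := QuotientAddGroup.mk'_surjective N x
    rw [← map_nsmul]
    exact (QuotientAddGroup.eq_zero_iff _).2 ⟨x, rfl⟩)
  obtain ⟨I, ⟨e⟩⟩ := @exists_linearEquiv_finsupp ℓ ν _ _ hν M (M ⧸ N) _ _ i1 i2 (QuotientAddGroup.mk' N)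
    (QuotientAddGroup.mk'_surjective N) (fun x => by
      refine ((QuotientAddGroup.eq_zero_iff (N := N) x)).trans ?_
      exact ⟨fun ⟨y, hy⟩ => ⟨y, hy.symm⟩, fun ⟨y, hy⟩ => ⟨y, hy.symm⟩⟩) hM h
  exact ⟨I, ⟨e.toAddEquiv⟩⟩

end Groth.Agent.Sga7.H762.FreeMod
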