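import Groth.Agent.Sga4h.LAcyc
import Groth.Agent.Sga4h.AcycComp
import Groth.Agent.Sga4h.SLocTrans88

/-!
# Acyclicity of the generic fibre over a valuation ring with separably closed fraction field

`Vb` strictly henselian local domain of dimension at most one with separably closed fraction field `Ω`,
`g : P ⟶ Spec Vb` which is, around the points of the closed fibre, weakly étale over a smooth `Vb`-scheme. Then
`ℤ/m → p_* ℤ/m` is an isomorphism and `R^q p_* ℤ/m = 0` for `q > 0`, `p : P_Ω ⟶ P`.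
-/

set_option autoImplicit false
universe u
open CategoryTheory CategoryTheory.Limits AlgebraicGeometry IsLocalRing

namespace Groth.Agent.Sga7.H762.GenAcyc

open Groth.Agent.Etrest.StrictLoc Groth.Agent.Sga4h.Acyc Groth.Agent.Sga4h.SLoc
  Groth.Agent.Sga4h.StalkAcyc Groth.Agent.Sga4h.LAcyc Groth.Agent.Sga4h.AcycComp

/-- A strictly henselian local ring has the cohomology of a point. -/
theorem hpt_strictlyHenselian (R : Type u) [CommRing R] [HenselianLocalRing R] [IsSepClosed (ResidueField R)]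
    (n : ℕ) : HPt (Spec (CommRingCat.of R)) n := by
  refine ⟨fun q hq => Groth.Agent.S0073.result R _ q hq, ?_⟩
  have h : _root_.IsPreconnected (Set.univ : Set (PrimeSpectrum R)) := by
    apply isPreconnected_of_forall (IsLocalRing.closedPoint R)
    intro y _
    refine ⟨closure {y}, Set.subset_univ _, ?_, subset_closure rfl, isPreconnected_singleton.closure⟩
    exact (IsLocalRing.specializes_closedPoint y).mem_closure
  have h1 : PreconnectedSpace (Spec (CommRingCat.of R)) := ⟨h⟩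
  have : ConnectedSpace (Spec (CommRingCat.of R)) := ⟨⟨IsLocalRing.closedPoint R⟩⟩
  exact Groth.Agent.Etrest.SHPoint.nonempty_H0_const _ _

variable {Vb Ω : Type u} [CommRing Vb] [IsDomain Vb] [HenselianLocalRing Vb] [IsSepClosed (ResidueField Vb)]
  [Field Ω] [IsSepClosed Ω] [Algebra Vb Ω] [IsFractionRing Vb Ω]

/-- `P` is, near `y`, weakly étale over a locally acyclic (for instance smooth) `S`-scheme. -/
def SmoothLike {P S : Scheme.{u}} (g : P ⟶ S) (y : P) : Prop :=
  ∃ (P' W : Scheme.{u}) (ι : P' ⟶ P) (π : P' ⟶ W) (h : W ⟶ S) (y' : P'),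
    WeaklyEtale ι ∧ WeaklyEtale π ∧ EtRest.IsLocallyAcyclic h ∧ π ≫ h = ι ≫ g ∧ ι y' = y

theorem hpt_closed {P : Scheme.{u}} (g : P ⟶ Spec (CommRingCat.of Vb)) (y : P)
    (hy : g y = closedPoint Vb) (hs : SmoothLike g y) (m : ℕ) (hm : (m : ResidueField Vb) ≠ 0) :
    ∃ (R : Type u) (_ : CommRing R) (_ : IsLocalRing R)
      (ξ : Spec (CommRingCat.of R) ⟶ P), IsStrictLoc ξ ∧ ξ.base (closedPoint R) = y ∧
        HPt (pullback (pullback.fst g (spm (algebraMap Vb Ω))) ξ) m := by
  obtain ⟨P', W, ι, π, h, y', hι, hπ, hh, hc, hy'⟩ := hs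
  obtain ⟨R, _, _, ξ', hξ', hξy⟩ := exists_strictLoc P' y'
  refine ⟨R, inferInstance, inferInstance, ξ' ≫ ι,
    Groth.Agent.Sga4h.SLocTrans88.isStrictLoc_comp_of_weaklyEtale ι hι hξ', ?_, ?_⟩
  · rw [← hy', ← hξy]
    rfl
  · have h1 : IsStrictLoc (ξ' ≫ π) :=
      Groth.Agent.Sga4h.SLocTrans88.isStrictLoc_comp_of_weaklyEtale π hπ hξ'
    obtain ⟨a, ha⟩ : ∃ a : Vb →+* R, spm a = ξ' ≫ ι ≫ g :=
      ⟨(Spec.preimage (ξ' ≫ ι ≫ g)).hom, Spec.map_preimage _⟩
    have hcl : (spm a) (closedPoint R) = closedPoint Vb := by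
      rw [ha, Scheme.Hom.comp_apply, Scheme.Hom.comp_apply, ← hy, ← hy', ← hξy]
    have hloc : IsLocalHom a := by
      refine ⟨fun v hv => ?_⟩
      by_contra hn
      have h2 : v ∈ (closedPoint Vb).asIdeal := hn
      have h3 : v ∈ ((spm a) (closedPoint R)).asIdeal := by
        rw [hcl]; exact h2
      exact (IsLocalRing.mem_maximalIdeal _).1 h3 hv
    have hmR : (m : ResidueField R) ≠ 0 := fun h0 => hm ((natCast_residue_eq_zero_iff a m).2 h0)
    have h4 := hpt_of_isLocallyAcyclic hh (isStrictLoc_id Vb) h1 a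
      (by rw [Category.comp_id, ha, Category.assoc, hc]) (algebraMap Vb Ω) m hmR
    have hP1 := (IsPullback.of_hasPullback (pullback.fst g (spm (algebraMap Vb Ω))) (ξ' ≫ ι)).flip.paste_vert
      (IsPullback.of_hasPullback g (spm (algebraMap Vb Ω)))
    have hP2 := IsPullback.of_hasPullback (spm a) (spm (algebraMap Vb Ω))
    have e : (ξ' ≫ ι) ≫ g = spm a := by rw [ha, Category.assoc]
    rw [e] at hP1
    exact HPt.of_iso (hP2.isoIsPullback _ _ hP1) h4

theorem hpt_open {P : Scheme.{u}} (g : P ⟶ Spec (CommRingCat.of Vb)) (y : P)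
    (hy : (g y).asIdeal = ⊥) (m : ℕ) :
    ∃ (R : Type u) (_ : CommRing R) (_ : IsLocalRing R)
      (ξ : Spec (CommRingCat.of R) ⟶ P), IsStrictLoc ξ ∧ ξ.base (closedPoint R) = y ∧
        HPt (pullback (pullback.fst g (spm (algebraMap Vb Ω))) ξ) m := by
  obtain ⟨R, _, _, ξ, hξ, hξy⟩ := exists_strictLoc P y
  refine ⟨R, inferInstance, inferInstance, ξ, hξ, hξy, ?_⟩
  have hR1 := hξ.henselian
  have hR2 := hξ.sepClosed
  obtain ⟨a, ha⟩ : ∃ a : Vb →+* R, spm a = ξ ≫ g := ⟨(Spec.preimage (ξ ≫ g)).hom, Spec.map_preimage _⟩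
  have hcl : ((spm a) (closedPoint R)).asIdeal = ⊥ := by
    rw [ha, Scheme.Hom.comp_apply, ← hy, ← hξy]
  have hu : ∀ v : nonZeroDivisors Vb, IsUnit (a v) := by
    intro v
    by_contra hn
    have h3 : (v : Vb) ∈ ((spm a) (closedPoint R)).asIdeal := hn
    rw [hcl, Ideal.mem_bot] at h3
    exact nonZeroDivisors.ne_zero v.2 h3
  let a' : Ω →+* R := IsLocalization.lift hu
  have ha' : a'.comp (algebraMap Vb Ω) = a := IsLocalization.lift_comp hu
  have hmono : Mono (spm (algebraMap Vb Ω)) := by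
    have : IsPreimmersion (spm (algebraMap Vb Ω)) :=
      IsPreimmersion.of_isLocalization (R := Vb) (S := Ω) (nonZeroDivisors Vb)
    infer_instance
  have hP1 := (IsPullback.of_hasPullback (pullback.fst g (spm (algebraMap Vb Ω))) ξ).flip.paste_vert
    (IsPullback.of_hasPullback g (spm (algebraMap Vb Ω)))
  have hP2 : IsPullback (𝟙 (Spec (CommRingCat.of R))) (spm a') (ξ ≫ g) (spm (algebraMap Vb Ω)) := by
    refine ⟨⟨by rw [Category.id_comp, ← spm_comp, ha', ha]⟩, ⟨PullbackCone.IsLimit.mk _ (fun s => s.fst)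
      (fun s => Category.comp_id _) (fun s => ?_) (fun s t h1 _ => by rw [← h1, Category.comp_id])⟩⟩
    rw [← cancel_mono (spm (algebraMap Vb Ω)), Category.assoc, ← spm_comp, ha', ha, s.condition]
  exact HPt.of_iso (hP2.isoIsPullback _ _ hP1) (hpt_strictlyHenselian R m)

/-- **Acyclicity of the geometric generic fibre.** -/
theorem acyc {P : Scheme.{u}} (g : P ⟶ Spec (CommRingCat.of Vb))
    (hdim : ∀ p : PrimeSpectrum Vb, p ≠ closedPoint Vb → p.asIdeal = ⊥)
    (hs : ∀ y : P, g y = closedPoint Vb → SmoothLike g y) (m : ℕ) (hm : (m : ResidueField Vb) ≠ 0)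
    [QuasiCompact (spm (algebraMap Vb Ω))] [QuasiSeparated (spm (algebraMap Vb Ω))] :
    Acyc (pullback.fst g (spm (algebraMap Vb Ω))) (EtCoh.const P (ZMod m)) := by
  refine acyc_const _ m (by rintro rfl; exact hm Nat.cast_zero) fun y => ?_
  by_cases hy : g y = closedPoint Vb
  · exact hpt_closed g y hy (hs y hy) m hm
  · exact hpt_open g y (hdim _ hy) m

end Groth.Agent.Sga7.H762.GenAcyc
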