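import Groth.Agent.S0754
import Groth.Agent.Hensel.Exist
import Groth.Prelude.Def_FEt
import Mathlib.AlgebraicGeometry.AffineTransitionLimit
import Mathlib.AlgebraicGeometry.Morphisms.Smooth

/-!
# Geometry of the punctured strict localization at an isolated non-smooth point

* `SmLike`: being weakly étale over a smooth scheme near a point, and its base change;
* `smLike_punctured`: this holds at the points of the punctured strict localization over the closed point;
* `isPullback_punctured`: the punctured spectrum of `A ⊗[V] B` for `B` integral over `V`;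
* `connectedSpace_of_isLimit`: cofiltered limits of connected schemes.
-/

set_option autoImplicit false
universe u

open CategoryTheory CategoryTheory.Limits AlgebraicGeometry IsLocalRing
open scoped TensorProduct

namespace Groth.Agent.Sga7.H762.Geom

/-- `P` is, near `y`, weakly étale over a smooth `S`-scheme. -/
def SmLike {P S : Scheme.{u}} (g : P ⟶ S) (y : P) : Prop :=
  ∃ (P' W : Scheme.{u}) (ι : P' ⟶ P) (π : P' ⟶ W) (h : W ⟶ S) (y' : P'),
    WeaklyEtale ι ∧ WeaklyEtale π ∧ Smooth h ∧ π ≫ h = ι ≫ g ∧ ι y' = y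

theorem SmLike.baseChange {P S T : Scheme.{u}} (g : P ⟶ S) (t : T ⟶ S) (z : ↥(pullback g t))
    (h : SmLike g (pullback.fst g t z)) : SmLike (pullback.snd g t) z := by
  obtain ⟨P', W, ι, π, h, y', hι, hπ, hh, hc, hy'⟩ := h
  have hcond : (pullback.fst ι (pullback.fst g t) ≫ π) ≫ h =
      (pullback.snd ι (pullback.fst g t) ≫ pullback.snd g t) ≫ t := by
    rw [Category.assoc, hc, pullback.condition_assoc, Category.assoc, pullback.condition]
  have h1 : IsPullback (pullback.fst ι (pullback.fst g t))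
      (pullback.snd ι (pullback.fst g t) ≫ pullback.snd g t) (ι ≫ g) t :=
    (IsPullback.of_hasPullback ι (pullback.fst g t)).paste_vert (IsPullback.of_hasPullback g t)
  have h2 : IsPullback (pullback.lift _ _ hcond) (pullback.fst ι (pullback.fst g t))
      (pullback.fst h t) π := by
    refine IsPullback.of_right (h₁₂ := pullback.snd h t) (h₂₂ := h) (v₁₃ := t) ?_
      (pullback.lift_fst _ _ _) (IsPullback.of_hasPullback h t).flip
    rw [pullback.lift_snd, hc]
    exact h1.flip
  obtain ⟨z', hz1, hz2⟩ := Scheme.Pullback.exists_preimage_pullback (f := ι) (g := pullback.fst g t) y' z hy'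
  have hπ' : WeaklyEtale (pullback.lift _ _ hcond) :=
    MorphismProperty.of_isPullback h2.flip hπ
  exact ⟨pullback ι (pullback.fst g t), pullback h t, pullback.snd ι _, pullback.lift _ _ hcond,
    pullback.snd h t, z', inferInstance, hπ', inferInstance, pullback.lift_snd _ _ _, hz2⟩

section Punctured

variable {V : Type u} [CommRing V] [IsLocalRing V] {X : Scheme.{u}} (f : X ⟶ Spec (CommRingCat.of V))
  [LocallyOfFinitePresentation f] (x : X)

instance smooth_smoothLocus {X Y : Scheme.{u}} (f : X ⟶ Y) [LocallyOfFinitePresentation f] :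
    Smooth (f.smoothLocus.ι ≫ f) := by
  rw [← Scheme.Hom.smoothLocus_eq_top_iff, ← Scheme.Hom.preimage_smoothLocus_eq]
  exact Scheme.Opens.ι_preimage_self _

variable (Osh : Type u) [CommRing Osh] [IsLocalRing Osh] [Algebra (X.presheaf.stalk x) Osh]
  [IsLocalHom (algebraMap (X.presheaf.stalk x) Osh)]

theorem specOf_closedPoint : Hens2.specOf X x Osh (closedPoint Osh) = x := by
  have h1 : (Spec.map (CommRingCat.ofHom (algebraMap (X.presheaf.stalk x) Osh))) (closedPoint Osh) =
      closedPoint (X.presheaf.stalk x) := by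
    have : IsLocalHom (CommRingCat.ofHom (algebraMap (X.presheaf.stalk x) Osh)).hom :=
      inferInstanceAs (IsLocalHom (algebraMap (X.presheaf.stalk x) Osh))
    exact Spec_closedPoint (R := X.presheaf.stalk x) (S := CommRingCat.of Osh)
      (f := CommRingCat.ofHom (algebraMap (X.presheaf.stalk x) Osh))
  have h2 : Hens2.specOf X x Osh (closedPoint Osh) = X.fromSpecStalk x
    ((Spec.map (CommRingCat.ofHom (algebraMap (X.presheaf.stalk x) Osh))) (closedPoint Osh)) := rfl
  rw [h2, h1]
  exact Scheme.fromSpecStalk_closedPoint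

theorem specOf_specializes (y : Spec (CommRingCat.of Osh)) : Hens2.specOf X x Osh y ⤳ x := by
  have h1 : y ⤳ (closedPoint Osh : Spec (CommRingCat.of Osh)) := IsLocalRing.specializes_closedPoint y
  have h2 := h1.map (Hens2.specOf X x Osh).continuous
  rwa [specOf_closedPoint] at h2

theorem eq_closedPoint_of_specOf [Hensel.IsStrictHenselization (X.presheaf.stalk x) Osh]
    (y : Spec (CommRingCat.of Osh)) (hy : Hens2.specOf X x Osh y = x) : y = closedPoint Osh := by
  have h1 : X.fromSpecStalk x ((Spec.map (CommRingCat.ofHom (algebraMap (X.presheaf.stalk x) Osh))) y) =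
      X.fromSpecStalk x (closedPoint (X.presheaf.stalk x)) :=
    hy.trans Scheme.fromSpecStalk_closedPoint.symm
  have h2 : (Spec.map (CommRingCat.ofHom (algebraMap (X.presheaf.stalk x) Osh))) y =
      closedPoint (X.presheaf.stalk x) := (X.fromSpecStalk x).injective h1
  have h3 : y.asIdeal.comap (algebraMap (X.presheaf.stalk x) Osh) = maximalIdeal (X.presheaf.stalk x) :=
    congrArg PrimeSpectrum.asIdeal h2
  have h4 := Groth.Agent.Hensel.Exist.map_maximalIdeal_of_isStrictHenselization (X.presheaf.stalk x) Osh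
  apply PrimeSpectrum.ext
  refine (IsLocalRing.eq_maximalIdeal ?_)
  have h5 : maximalIdeal Osh ≤ y.asIdeal := by
    rw [← h4, Ideal.map_le_iff_le_comap, h3]
  exact (Ideal.IsMaximal.eq_of_le (IsLocalRing.maximalIdeal.isMaximal Osh) y.isPrime.ne_top h5) ▸
    IsLocalRing.maximalIdeal.isMaximal Osh

theorem smLike_punctured (U : X.Opens) (hxU : x ∈ U)
    (hisol : ∀ y : X, y ∈ U → f.base y = closedPoint V → y ≠ x → y ∈ f.smoothLocus)
    [Hensel.IsStrictHenselization (X.presheaf.stalk x) Osh]
    (y : (FEt.puncturedSpec Osh : Scheme.{u}))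
    (hy : ((FEt.puncturedSpec Osh).ι ≫ Hens2.specOf X x Osh ≫ f) y = closedPoint V) :
    SmLike ((FEt.puncturedSpec Osh).ι ≫ Hens2.specOf X x Osh ≫ f) y := by
  let j : (FEt.puncturedSpec Osh : Scheme.{u}) ⟶ X := (FEt.puncturedSpec Osh).ι ≫ Hens2.specOf X x Osh
  have hjy : j y = Hens2.specOf X x Osh y.1 := rfl
  have h1 : j y ∈ U := (specOf_specializes x Osh y.1).mem_open U.isOpen hxU
  have h2 : f (j y) = closedPoint V := hy
  have h3 : j y ≠ x := fun h => y.2 (eq_closedPoint_of_specOf x Osh y.1 h)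
  have h4 : j y ∈ f.smoothLocus := hisol _ h1 h2 h3
  have hwe : WeaklyEtale (Hens2.specOf X x Osh) := Groth.Agent.S0754.result X x Osh
  have hj : WeaklyEtale j := inferInstanceAs (WeaklyEtale (_ ≫ _))
  obtain ⟨y', hy1, -⟩ := Scheme.Pullback.exists_preimage_pullback (f := j) (g := f.smoothLocus.ι) y ⟨j y, h4⟩ rfl
  refine ⟨pullback j f.smoothLocus.ι, f.smoothLocus, pullback.fst _ _, pullback.snd _ _,
    f.smoothLocus.ι ≫ f, y', inferInstance, inferInstance, inferInstance, ?_, hy1⟩
  rw [← pullback.condition_assoc]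
  simp only [j, Category.assoc]

end Punctured

section BaseExt

/-- The punctured spectrum pulls back to the punctured spectrum under integral local homomorphisms. -/
theorem preimage_puncturedSpec (A A' : Type u) [CommRing A] [IsLocalRing A] [CommRing A'] [IsLocalRing A']
    [Algebra A A'] [Algebra.IsIntegral A A'] :
    Spec.map (CommRingCat.ofHom (algebraMap A A')) ⁻¹ᵁ (FEt.puncturedSpec A) = FEt.puncturedSpec A' := by
  ext q
  change ¬ ((Spec.map (CommRingCat.ofHom (algebraMap A A'))) q = closedPoint A) ↔ ¬ (q = closedPoint A')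
  rw [not_iff_not]
  constructor
  · intro h
    have h1 : q.asIdeal.comap (algebraMap A A') = maximalIdeal A := congrArg PrimeSpectrum.asIdeal h
    apply PrimeSpectrum.ext
    refine IsLocalRing.eq_maximalIdeal ?_
    have h2 : (q.asIdeal.comap (algebraMap A A')).IsMaximal := by
      rw [h1]; exact IsLocalRing.maximalIdeal.isMaximal A
    have := q.isPrime
    exact Ideal.isMaximal_of_isIntegral_of_isMaximal_comap (R := A) q.asIdeal h2
  · rintro rfl
    apply PrimeSpectrum.ext
    refine IsLocalRing.eq_maximalIdeal ?_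
    have h2 : (closedPoint A').asIdeal.IsMaximal := IsLocalRing.maximalIdeal.isMaximal A'
    exact Ideal.isMaximal_comap_of_isIntegral_of_isMaximal (R := A) (closedPoint A').asIdeal

variable (V A B : Type u) [CommRing V] [CommRing A] [CommRing B] [Algebra V A] [Algebra V B]
  [IsLocalRing A] [Algebra.IsIntegral V B] [IsLocalRing (A ⊗[V] B)]

omit [IsLocalRing A] [Algebra.IsIntegral V B] [IsLocalRing (A ⊗[V] B)] in
theorem isPullback_restrict {X Y : Scheme.{u}} (f : X ⟶ Y) (U : Y.Opens) (Q : X.Opens) (h : f ⁻¹ᵁ U = Q) :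
    ∃ a : (Q : Scheme.{u}) ⟶ U, IsPullback Q.ι a f U.ι := by
  subst h
  exact ⟨_, (isPullback_morphismRestrict f U).flip⟩

/-- The punctured spectrum of `A ⊗[V] B` is the base change of the punctured spectrum of `A`. -/
theorem exists_isPullback_punctured :
    ∃ (a : (FEt.puncturedSpec (A ⊗[V] B) : Scheme.{u}) ⟶ (FEt.puncturedSpec A : Scheme.{u}))
      (b : (FEt.puncturedSpec (A ⊗[V] B) : Scheme.{u}) ⟶ Spec (CommRingCat.of B)),
      IsPullback a b ((FEt.puncturedSpec A).ι ≫ Spec.map (CommRingCat.ofHom (algebraMap V A)))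
        (Spec.map (CommRingCat.ofHom (algebraMap V B))) := by
  obtain ⟨a, ha⟩ := isPullback_restrict (Spec.map (CommRingCat.ofHom (algebraMap A (A ⊗[V] B))))
    (FEt.puncturedSpec A) (FEt.puncturedSpec (A ⊗[V] B)) (preimage_puncturedSpec A (A ⊗[V] B))
  have hW : IsPullback (Spec.map (CommRingCat.ofHom
        (Algebra.TensorProduct.includeLeftRingHom (R := V) (A := A) (B := B))))
      (Spec.map (CommRingCat.ofHom
        (Algebra.TensorProduct.includeRight (R := V) (A := A) (B := B)).toRingHom))
      (Spec.map (CommRingCat.ofHom (algebraMap V A)))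
      (Spec.map (CommRingCat.ofHom (algebraMap V B))) :=
    isPullback_SpecMap_of_isPushout _ _ _ _ (CommRingCat.isPushout_tensorProduct V A B)
  exact ⟨a, _, ha.flip.paste_vert hW⟩

end BaseExt

section Conn

variable {I : Type u} [Category.{u} I] [IsCofiltered I] (D : I ⥤ Scheme.{u})
  [∀ {i j} (f : i ⟶ j), IsAffineHom (D.map f)] (c : Cone D) (hc : IsLimit c)

include hc in
theorem connectedSpace_of_isLimit [∀ i, CompactSpace (D.obj i)]
    (hs : ∀ i, Function.Surjective (c.π.app i)) (hconn : ∀ i, ConnectedSpace (D.obj i)) :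
    ConnectedSpace c.pt := by
  have hcpt : CompactSpace c.pt := Scheme.compactSpace_of_isLimit D c hc
  obtain ⟨i₀⟩ := IsCofiltered.nonempty (C := I)
  have hne : Nonempty c.pt := by
    obtain ⟨y⟩ := (hconn i₀).toNonempty
    obtain ⟨z, -⟩ := hs i₀ y
    exact ⟨z⟩
  have hpre : PreconnectedSpace c.pt := by
    rw [preconnectedSpace_iff_clopen]
    intro s hs'
    obtain ⟨i, Z, -, hZ⟩ := exists_preimage_eq D c hc ⟨s, hs'.isOpen⟩ hs'.isClosed.isCompact
    obtain ⟨j, W, -, hW⟩ := exists_preimage_eq D c hc ⟨sᶜ, hs'.compl.isOpen⟩ hs'.compl.isClosed.isCompact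
    obtain ⟨k, a, b, -⟩ := IsCofilteredOrEmpty.cone_objs i j
    have hZ' : ∀ z : c.pt, c.π.app k z ∈ D.map a ⁻¹ᵁ Z ↔ z ∈ s := by
      intro z
      have h1 : z ∈ c.π.app i ⁻¹ᵁ Z ↔ z ∈ s := by rw [hZ]; rfl
      rw [← h1, ← c.w a]
      rfl
    have hW' : ∀ z : c.pt, c.π.app k z ∈ D.map b ⁻¹ᵁ W ↔ z ∉ s := by
      intro z
      have h1 : z ∈ c.π.app j ⁻¹ᵁ W ↔ z ∉ s := by rw [hW]; rfl
      rw [← h1, ← c.w b]
      rfl
    have hcompl : ((D.map a ⁻¹ᵁ Z : (D.obj k).Opens) : Set (D.obj k))ᶜ =
        ((D.map b ⁻¹ᵁ W : (D.obj k).Opens) : Set (D.obj k)) := by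
      ext y
      obtain ⟨z, rfl⟩ := hs k y
      exact (not_congr (hZ' z)).trans (hW' z).symm
    have hcl : IsClopen ((D.map a ⁻¹ᵁ Z : (D.obj k).Opens) : Set (D.obj k)) := by
      refine ⟨?_, (D.map a ⁻¹ᵁ Z).isOpen⟩
      rw [← isOpen_compl_iff, hcompl]
      exact (D.map b ⁻¹ᵁ W).isOpen
    have hk := hconn k
    rcases isClopen_iff.1 hcl with h | h
    · left
      ext z
      simp only [Set.mem_empty_iff_false, iff_false]
      intro hz
      have h1 : c.π.app k z ∈ ((D.map a ⁻¹ᵁ Z : (D.obj k).Opens) : Set (D.obj k)) := (hZ' z).2 hz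
      rw [h] at h1
      exact h1
    · right
      ext z
      simp only [Set.mem_univ, iff_true]
      refine (hZ' z).1 ?_
      change c.π.app k z ∈ ((D.map a ⁻¹ᵁ Z : (D.obj k).Opens) : Set (D.obj k))
      rw [h]
      trivial
  exact { hpre with toNonempty := hne }

end Conn

end Groth.Agent.Sga7.H762.Geom
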