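import Groth.Prelude.Def_EtCore
import Groth.Agent.Sga5.HcConst
import Mathlib.Algebra.Homology.DerivedCategory.Ext.ExactSequences
import Mathlib.Algebra.Homology.ShortComplex.Ab

/-!
# Étale cohomology with constant coefficients as a functor of the coefficients

`Hmap Y n f : H^n(Y, A) →+ H^n(Y, B)` for `f : A →+ B`, its exactness properties, and the subquotient sequences of
`ℤ/ℓ^ν`.
-/

set_option autoImplicit false
universe u
open CategoryTheory CategoryTheory.Limits AlgebraicGeometry Opposite Abelian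

namespace Groth.Agent.Sga7.H762.HConst

open Groth.Agent.Sga5.HcConst

noncomputable section

/-- A homomorphism of abelian groups, lifted one universe up. -/
def ul {A B : Type} [AddCommGroup A] [AddCommGroup B] (f : A →+ B) :
    AddCommGrpCat.of (ULift.{u + 1} A) ⟶ AddCommGrpCat.of (ULift.{u + 1} B) :=
  AddCommGrpCat.ofHom ((AddEquiv.ulift.symm.toAddMonoidHom.comp f).comp AddEquiv.ulift.toAddMonoidHom)

theorem ul_comp {A B C : Type} [AddCommGroup A] [AddCommGroup B] [AddCommGroup C] (f : A →+ B) (g : B →+ C) :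
    ul.{u} (g.comp f) = ul f ≫ ul g := rfl

theorem ul_zero {A B : Type} [AddCommGroup A] [AddCommGroup B] : ul.{u} (0 : A →+ B) = 0 := rfl

theorem ul_nsmul {A : Type} [AddCommGroup A] (m : ℕ) :
    ul.{u} (nsmulAddMonoidHom (α := A) m) = m • 𝟙 (AddCommGrpCat.of (ULift.{u + 1} A)) := by
  ext x
  rw [nsmul_id_apply]
  rfl

variable (Y : Scheme.{u}) (n : ℕ)

/-- The sequence of constant sheaves attached to a short exact sequence of groups. -/
theorem shortExact {A B C : Type} [AddCommGroup A] [AddCommGroup B] [AddCommGroup C] (f : A →+ B) (g : B →+ C)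
    (hf : Function.Injective f) (hg : Function.Surjective g) (hfg : ∀ y : B, g y = 0 ↔ ∃ x, f x = y) :
    ∃ w : (constantSheaf Y.smallEtaleTopology AddCommGrpCat.{u + 1}).map (ul f) ≫
      (constantSheaf Y.smallEtaleTopology AddCommGrpCat.{u + 1}).map (ul g) = 0,
      (ShortComplex.mk ((constantSheaf Y.smallEtaleTopology AddCommGrpCat.{u + 1}).map (ul f))
        ((constantSheaf Y.smallEtaleTopology AddCommGrpCat.{u + 1}).map (ul g)) w).ShortExact := by
  have hab : ul.{u} f ≫ ul g = 0 := by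
    ext ⟨x⟩
    exact (hfg _).2 ⟨x, rfl⟩
  let T : ShortComplex AddCommGrpCat.{u + 1} := ShortComplex.mk (ul f) (ul g) hab
  have hT : T.ShortExact :=
    { exact := by
        rw [ShortComplex.ab_exact_iff]
        rintro ⟨y⟩ hy
        obtain ⟨x, hx⟩ := (hfg y).1 (congrArg ULift.down hy)
        exact ⟨⟨x⟩, congrArg ULift.up hx⟩
      mono_f := by
        rw [AddCommGrpCat.mono_iff_injective]
        rintro ⟨x⟩ ⟨y⟩ hxy
        exact congrArg ULift.up (hf (congrArg ULift.down hxy))
      epi_g := by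
        rw [AddCommGrpCat.epi_iff_surjective]
        rintro ⟨y⟩
        obtain ⟨x, rfl⟩ := hg y
        exact ⟨⟨x⟩, rfl⟩ }
  have h1 : PreservesFiniteLimits (constantSheaf Y.smallEtaleTopology AddCommGrpCat.{u + 1}) := by
    unfold constantSheaf
    infer_instance
  have h2 : PreservesFiniteColimits (constantSheaf Y.smallEtaleTopology AddCommGrpCat.{u + 1}) := by
    unfold constantSheaf
    infer_instance
  exact ⟨_, hT.map_of_exact (constantSheaf Y.smallEtaleTopology AddCommGrpCat.{u + 1})⟩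

/-- The map on cohomology with constant coefficients. -/
def Hmap {A B : Type} [AddCommGroup A] [AddCommGroup B] (f : A →+ B) :
    EtCoh.H Y (EtCoh.const Y A) n →+ EtCoh.H Y (EtCoh.const Y B) n :=
  ((EtCoh.HF Y n).map ((constantSheaf Y.smallEtaleTopology AddCommGrpCat.{u + 1}).map (ul f))).hom

variable {Y n}

theorem Hmap_comp {A B C : Type} [AddCommGroup A] [AddCommGroup B] [AddCommGroup C] (f : A →+ B) (g : B →+ C)
    (x : EtCoh.H Y (EtCoh.const Y A) n) : Hmap Y n (g.comp f) x = Hmap Y n g (Hmap Y n f x) := by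
  unfold Hmap
  rw [ul_comp, Functor.map_comp, Functor.map_comp]
  rfl

theorem Hmap_nsmul {A : Type} [AddCommGroup A] (m : ℕ) (x : EtCoh.H Y (EtCoh.const Y A) n) :
    Hmap Y n (nsmulAddMonoidHom (α := A) m) x = m • x := by
  unfold Hmap
  rw [ul_nsmul, Functor.map_nsmul, Functor.map_nsmul, CategoryTheory.Functor.map_id,
    CategoryTheory.Functor.map_id]
  exact nsmul_id_apply (A := (EtCoh.HF Y n).obj (EtCoh.const Y A)) m x

section

variable {A B C : Type} [AddCommGroup A] [AddCommGroup B] [AddCommGroup C] (f : A →+ B) (g : B →+ C)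
    (hf : Function.Injective f) (hg : Function.Surjective g) (hfg : ∀ y : B, g y = 0 ↔ ∃ x, f x = y)

include hf hg hfg

/-- Exactness in the middle. -/
theorem exact_mid (x : EtCoh.H Y (EtCoh.const Y B) n) (hx : Hmap Y n g x = 0) :
    ∃ y : EtCoh.H Y (EtCoh.const Y A) n, Hmap Y n f y = x := by
  obtain ⟨w, hS⟩ := shortExact Y f g hf hg hfg
  exact Ext.covariant_sequence_exact₂ (X := (constantSheaf Y.smallEtaleTopology
    AddCommGrpCat.{u+1}).obj (AddCommGrpCat.of (ULift ℤ))) hS (x : Ext _ _ n) hx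

/-- Surjectivity when the next group of the kernel vanishes. -/
theorem surj (h : Subsingleton (EtCoh.H Y (EtCoh.const Y A) (n + 1))) :
    Function.Surjective (Hmap Y n g) := by
  obtain ⟨w, hS⟩ := shortExact Y f g hf hg hfg
  intro x
  obtain ⟨y, hy⟩ := Ext.covariant_sequence_exact₃ (X := (constantSheaf Y.smallEtaleTopology
    AddCommGrpCat.{u+1}).obj (AddCommGrpCat.of (ULift ℤ))) hS (x : Ext _ _ n) (n₁ := n + 1) rfl
    (Subsingleton.elim (α := EtCoh.H Y (EtCoh.const Y A) (n+1)) _ _)
  exact ⟨y, hy⟩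

/-- Injectivity when the previous map is surjective. -/
theorem inj (h : Function.Surjective (Hmap Y n g)) : Function.Injective (Hmap Y (n + 1) f) := by
  obtain ⟨w, hS⟩ := shortExact Y f g hf hg hfg
  rw [injective_iff_map_eq_zero]
  intro x hx
  obtain ⟨y, hy⟩ := Ext.covariant_sequence_exact₁ (X := (constantSheaf Y.smallEtaleTopology
    AddCommGrpCat.{u+1}).obj (AddCommGrpCat.of (ULift ℤ))) hS (x : Ext _ _ (n + 1)) hx (n₀ := n) rfl
  obtain ⟨z, hz⟩ := h y
  rw [← hy]
  have h1 : y = Ext.comp (z : Ext _ _ n) (Ext.mk₀ ((constantSheaf Y.smallEtaleTopology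
    AddCommGrpCat.{u + 1}).map (ul g))) (add_zero n) := hz.symm
  rw [h1]
  exact (Ext.comp_assoc_of_second_deg_zero _ _ _ _).trans
    ((congrArg (fun t => Ext.comp (z : Ext _ _ n) t rfl) (hS.comp_extClass)).trans (Ext.comp_zero _ _ _ _ _))

/-- Injectivity in degree zero. -/
theorem inj_zero : Function.Injective (Hmap Y 0 f) := by
  obtain ⟨w, hS⟩ := shortExact Y f g hf hg hfg
  have := hS.mono_f
  rw [injective_iff_map_eq_zero]
  intro x hx
  obtain ⟨a, rfl⟩ := Ext.mk₀_bijective _ _ |>.2 (x : Ext ((constantSheaf Y.smallEtaleTopology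
    AddCommGrpCat.{u+1}).obj (AddCommGrpCat.of (ULift ℤ))) (EtCoh.const Y A) 0)
  have h1 : Ext.mk₀ (a ≫ (constantSheaf Y.smallEtaleTopology AddCommGrpCat.{u + 1}).map (ul f)) = 0 := by
    rw [← Ext.mk₀_comp_mk₀]
    exact hx
  rw [Ext.mk₀_eq_zero_iff] at h1
  have h2 : a = 0 := by
    rw [← cancel_mono ((constantSheaf Y.smallEtaleTopology AddCommGrpCat.{u + 1}).map (ul f)), h1, zero_comp]
  rw [h2, Ext.mk₀_zero]

end

end

end Groth.Agent.Sga7.H762.HConst
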