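import Groth.Agent.Sga7.H762.HConst
import Groth.Agent.Sga7.H762.FreeMod
import Groth.Agent.Etrest.SHPoint

/-!
# Freeness of the middle cohomology group

If `Y` is connected and `H^i(Y, ℤ/ℓ^a) = 0` for all `a` and all `i > 0` different from `n ≥ 1`, then `H^n(Y, ℤ/ℓ^ν)` is
a direct sum of copies of `ℤ/ℓ^ν`.
-/

set_option autoImplicit false
universe u
open CategoryTheory CategoryTheory.Limits AlgebraicGeometry Opposite Abelian

namespace Groth.Agent.Sga7.H762.MidFree

open Groth.Agent.Sga7.H762.HConst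

noncomputable section

/-- Multiplication by `q` from `ℤ/p` to `ℤ/N`, `N = p q`. -/
def inc (N p q : ℕ) (h : N = p * q) : ZMod p →+ ZMod N :=
  ZMod.lift p ⟨zmultiplesHom (ZMod N) (q : ZMod N), by
    rw [zmultiplesHom_apply, natCast_zsmul, nsmul_eq_mul, ← Nat.cast_mul, ← h, ZMod.natCast_self]⟩

theorem inc_intCast (N p q : ℕ) (h : N = p * q) (k : ℤ) :
    inc N p q h (k : ZMod p) = ((k * q : ℤ) : ZMod N) := by
  unfold inc
  rw [ZMod.lift_coe]
  simp

/-- Reduction. -/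
def red (N q : ℕ) (h : q ∣ N) : ZMod N →+ ZMod q := (ZMod.castHom h (ZMod q)).toAddMonoidHom

theorem red_intCast (N q : ℕ) (h : q ∣ N) (k : ℤ) : red N q h (k : ZMod N) = (k : ZMod q) :=
  map_intCast (ZMod.castHom h (ZMod q)) k

theorem inc_injective (N p q : ℕ) (h : N = p * q) (hN : 0 < N) : Function.Injective (inc N p q h) := by
  rw [injective_iff_map_eq_zero]
  intro x hx
  obtain ⟨k, rfl⟩ := ZMod.intCast_surjective x
  rw [inc_intCast, ZMod.intCast_zmod_eq_zero_iff_dvd, h, Nat.cast_mul] at hx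
  have hq : (q : ℤ) ≠ 0 := by
    rintro hq
    rw [Nat.cast_eq_zero] at hq
    rw [h, hq, mul_zero] at hN
    exact lt_irrefl _ hN
  rw [ZMod.intCast_zmod_eq_zero_iff_dvd]
  exact Int.dvd_of_mul_dvd_mul_right hq hx

theorem red_surjective (N q : ℕ) (h : q ∣ N) : Function.Surjective (red N q h) := by
  intro x
  obtain ⟨k, rfl⟩ := ZMod.intCast_surjective x
  exact ⟨k, red_intCast N q h k⟩

theorem red_eq_zero_iff (N p q : ℕ) (h : N = p * q) (y : ZMod N) :
    red N q ⟨p, h.trans (mul_comm _ _)⟩ y = 0 ↔ ∃ x, inc N p q h x = y := by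
  constructor
  · intro hy
    obtain ⟨k, rfl⟩ := ZMod.intCast_surjective y
    rw [red_intCast, ZMod.intCast_zmod_eq_zero_iff_dvd] at hy
    obtain ⟨t, ht⟩ := hy
    exact ⟨(t : ZMod p), by rw [inc_intCast, ht, mul_comm]⟩
  · rintro ⟨x, rfl⟩
    obtain ⟨k, rfl⟩ := ZMod.intCast_surjective x
    rw [inc_intCast, red_intCast, ZMod.intCast_zmod_eq_zero_iff_dvd]
    exact ⟨k, mul_comm _ _⟩

theorem inc_comp_red (N p q : ℕ) (h : N = p * q) :
    (inc N q p (h.trans (mul_comm _ _))).comp (red N q ⟨p, h.trans (mul_comm _ _)⟩) =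
      nsmulAddMonoidHom (α := ZMod N) p := by
  ext y
  obtain ⟨k, rfl⟩ := ZMod.intCast_surjective y
  rw [AddMonoidHom.comp_apply, red_intCast, inc_intCast]
  simp [mul_comm]

variable {Y : Scheme.{u}}

theorem surj_H0 [ConnectedSpace Y] (N p q : ℕ) (h : N = p * q) (hN : 0 < N) :
    Function.Surjective (Hmap Y 0 (red N q ⟨p, h.trans (mul_comm _ _)⟩)) := by
  have hp : 0 < p := Nat.pos_of_ne_zero (by rintro rfl; simp [h] at hN)
  have hq : 0 < q := Nat.pos_of_ne_zero (by rintro rfl; simp [h] at hN)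
  have : NeZero N := ⟨hN.ne'⟩
  have : NeZero p := ⟨hp.ne'⟩
  have : NeZero q := ⟨hq.ne'⟩
  obtain ⟨eN⟩ := Etrest.SHPoint.nonempty_H0_const Y (ZMod N)
  obtain ⟨ep⟩ := Etrest.SHPoint.nonempty_H0_const Y (ZMod p)
  obtain ⟨eq⟩ := Etrest.SHPoint.nonempty_H0_const Y (ZMod q)
  have fN : Finite (EtCoh.H Y (EtCoh.const Y (ZMod N)) 0) := Finite.of_equiv _ eN.toEquiv.symm
  have fq : Finite (EtCoh.H Y (EtCoh.const Y (ZMod q)) 0) := Finite.of_equiv _ eq.toEquiv.symm
  have cN : Nat.card (EtCoh.H Y (EtCoh.const Y (ZMod N)) 0) = N := by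
    rw [Nat.card_congr eN.toEquiv, Nat.card_zmod]
  have cp : Nat.card (EtCoh.H Y (EtCoh.const Y (ZMod p)) 0) = p := by
    rw [Nat.card_congr ep.toEquiv, Nat.card_zmod]
  have cq : Nat.card (EtCoh.H Y (EtCoh.const Y (ZMod q)) 0) = q := by
    rw [Nat.card_congr eq.toEquiv, Nat.card_zmod]
  set g := Hmap Y 0 (red N q ⟨p, h.trans (mul_comm _ _)⟩) with hg
  set f := Hmap Y 0 (inc N p q h) with hf
  have hfi : Function.Injective f := inj_zero _ _ (inc_injective N p q h hN) (red_surjective N q _)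
    (red_eq_zero_iff N p q h)
  have hker : g.ker = f.range := by
    ext x
    constructor
    · intro hx
      exact exact_mid _ _ (inc_injective N p q h hN) (red_surjective N q _) (red_eq_zero_iff N p q h) x hx
    · rintro ⟨y, rfl⟩
      rw [AddMonoidHom.mem_ker, hg, hf, ← Hmap_comp]
      have h0 : (red N q ⟨p, h.trans (mul_comm _ _)⟩).comp (inc N p q h) = 0 := by
        ext y
        exact (red_eq_zero_iff N p q h _).2 ⟨y, rfl⟩
      rw [h0]
      unfold Hmap
      rw [ul_zero, Functor.map_zero, Functor.map_zero]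
      rfl
  have h1 : Nat.card g.ker = p := by
    rw [hker]
    exact (Nat.card_congr (AddMonoidHom.ofInjective hfi).toEquiv).symm.trans cp
  have h2 : Nat.card g.range = q := by
    have h3 := AddSubgroup.card_eq_card_quotient_mul_card_addSubgroup g.ker
    rw [cN, h1, Nat.card_congr (QuotientAddGroup.quotientKerEquivRange g).toEquiv] at h3
    exact (Nat.eq_of_mul_eq_mul_right hp (((mul_comm q p).trans h.symm).trans h3)).symm
  have h3 : g.range = ⊤ := by
    apply AddSubgroup.eq_top_of_card_eq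
    rw [h2, cq]
  exact AddMonoidHom.range_eq_top.1 h3

/-- The basic divisibility statement. -/
theorem exists_eq_nsmul [ConnectedSpace Y] (n : ℕ) (N p q : ℕ) (h : N = p * q) (hN : 0 < N)
    (h1 : 0 < n → Subsingleton (EtCoh.H Y (EtCoh.const Y (ZMod p)) n))
    (h2 : Subsingleton (EtCoh.H Y (EtCoh.const Y (ZMod q)) (n + 1 + 1)))
    (x : EtCoh.H Y (EtCoh.const Y (ZMod N)) (n + 1)) (hx : p • x = 0) :
    ∃ y : EtCoh.H Y (EtCoh.const Y (ZMod N)) (n + 1), x = q • y := by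
  have h' : N = q * p := h.trans (mul_comm _ _)
  -- the reduction `x'` of `x` modulo `q` vanishes
  have hs : Function.Surjective (Hmap Y n (red N p ⟨q, h'.trans (mul_comm _ _)⟩)) := by
    rcases Nat.eq_zero_or_pos n with rfl | hn
    · exact surj_H0 N q p h' hN
    · have := h1 hn
      exact fun y => ⟨0, Subsingleton.elim _ _⟩
  have hi : Function.Injective (Hmap Y (n + 1) (inc N q p h')) :=
    inj _ _ (inc_injective N q p h' hN) (red_surjective N p _) (red_eq_zero_iff N q p h') hs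
  have hx' : Hmap Y (n + 1) (red N q ⟨p, h.trans (mul_comm _ _)⟩) x = 0 := by
    apply hi
    rw [map_zero, ← Hmap_comp, inc_comp_red N p q h, Hmap_nsmul, hx]
  obtain ⟨z, hz⟩ := exact_mid _ _ (inc_injective N p q h hN) (red_surjective N q _)
    (red_eq_zero_iff N p q h) x hx'
  obtain ⟨y, hy⟩ := surj (n := n + 1) _ _ (inc_injective N q p h' hN) (red_surjective N p _)
    (red_eq_zero_iff N q p h') h2 z
  refine ⟨y, ?_⟩
  rw [← hz, ← hy, ← Hmap_comp, ← Hmap_nsmul, ← inc_comp_red N q p h']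

/-- Freeness of the middle cohomology. -/
theorem exists_addEquiv [ConnectedSpace Y] (ℓ ν n : ℕ) (hℓ : ℓ.Prime) (hν : 0 < ν) (hn : 0 < n)
    (hv : ∀ a i : ℕ, 0 < i → i ≠ n → Subsingleton (EtCoh.H Y (EtCoh.const Y (ZMod (ℓ ^ a))) i)) :
    ∃ I : Type (u + 1), Nonempty (EtCoh.H Y (EtCoh.const Y (ZMod (ℓ ^ ν))) n ≃+ (I →₀ ZMod (ℓ ^ ν))) := by
  obtain ⟨n, rfl⟩ : ∃ k, n = k + 1 := ⟨n - 1, by omega⟩
  refine FreeMod.exists_addEquiv_finsupp ℓ ν hℓ hν _ ?_ ?_
  · intro x
    exact Groth.Agent.Sga5.HcConst.H_nsmul_eq_zero _ _ (Groth.Agent.Sga5.HcConst.killedBy_const Y _ _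
      (Groth.Agent.Sga5.HcConst.zmod_nsmul _)) _ x
  · intro a b hab x hx
    exact exists_eq_nsmul n (ℓ ^ ν) (ℓ ^ a) (ℓ ^ b) (by rw [← hab, pow_add]) (pow_pos hℓ.pos ν)
      (fun h => hv a n h (by omega)) (hv b (n + 1 + 1) (by omega) (by omega)) x hx

end

end Groth.Agent.Sga7.H762.MidFree
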