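import Groth.Agent.Sga7.H762.NearbyRed
import Groth.Agent.S0712
import Groth.Agent.S0540

/-!
# Nearby cycles at an isolated non-smooth point: reduction to punctured strict localizations over finite
extensions of the base
-/

set_option autoImplicit false
universe u

open CategoryTheory CategoryTheory.Limits AlgebraicGeometry IsLocalRing Opposite
open scoped TensorProduct

namespace Groth.Agent.Sga7.H762.NearbyCI

open FinDVR Geom GenAcyc NearbyRed Groth.Agent.Sga7.H752.BaseExt

/-- Smooth morphisms are locally acyclic. -/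
theorem isLocallyAcyclic_of_smooth {X S : Scheme.{u}} (f : X ⟶ S) (hf : Smooth f) : EtRest.IsLocallyAcyclic f := by
  intro x RS RX _ _ _ _ _ _ _ _ _ _ _ _ hc Ω _ _ _ n hn
  exact ⟨fun q hq => (Groth.Agent.S0712.result f x RS RX hc Ω n hn q).1 hq,
    (Groth.Agent.S0712.result f x RS RX hc Ω n hn 0).2⟩

section

variable {V : Type u} [CommRing V] {X : Scheme.{u}} (f : X ⟶ Spec (CommRingCat.of V)) (x : X)
  (Osh : Type u) [CommRing Osh] [IsLocalRing Osh] [Algebra (X.presheaf.stalk x) Osh]
  [IsLocalHom (algebraMap (X.presheaf.stalk x) Osh)] [Algebra V Osh]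
  (hVO : Spec.map (CommRingCat.ofHom (algebraMap V Osh)) = Hens2.specOf X x Osh ≫ f)

include hVO

theorem isLocalHom_of_specOf [IsLocalRing V] (hx : f.base x = closedPoint V) : IsLocalHom (algebraMap V Osh) := by
  rw [isLocalHom_iff_comap_closedPoint]
  have h1 : (Spec.map (CommRingCat.ofHom (algebraMap V Osh))) (closedPoint Osh) = closedPoint V := by
    rw [hVO]
    change f (Hens2.specOf X x Osh (closedPoint Osh)) = _
    rw [specOf_closedPoint x Osh]
    exact hx
  exact h1

theorem flat_of_specOf [Flat f] [Hensel.IsStrictHenselization (X.presheaf.stalk x) Osh] : Module.Flat V Osh := by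
  have hwe : WeaklyEtale (Hens2.specOf X x Osh) := Groth.Agent.S0754.result X x Osh
  have h1 : Flat (Spec.map (CommRingCat.ofHom (algebraMap V Osh))) := by
    rw [hVO]
    infer_instance
  exact RingHom.flat_algebraMap_iff.1 (Flat.SpecMap_iff.1 h1)

end

section

variable (V K Ω : Type u) [CommRing V] [IsDomain V] [IsDiscreteValuationRing V] [HenselianLocalRing V]
    [IsSepClosed (ResidueField V)] [CharZero (ResidueField V)]
    [Field K] [Algebra V K] [IsFractionRing V K]
    [Field Ω] [Algebra K Ω] [IsSepClosure K Ω] [Algebra V Ω] [IsScalarTower V K Ω]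
    {X : Scheme.{u}} (f : X ⟶ Spec (CommRingCat.of V)) [Flat f] [LocallyOfFinitePresentation f]
    (x : X) (hx : f.base x = closedPoint V)
    (U : X.Opens) (hxU : x ∈ U)
    (hisol : ∀ y : X, y ∈ U → f.base y = closedPoint V → y ≠ x → y ∈ f.smoothLocus)
    (Osh : Type u) [CommRing Osh] [IsLocalRing Osh] [Algebra (X.presheaf.stalk x) Osh]
    [IsLocalHom (algebraMap (X.presheaf.stalk x) Osh)] [Hensel.IsStrictHenselization (X.presheaf.stalk x) Osh]
    [Algebra V Osh]
    (hVO : Spec.map (CommRingCat.ofHom (algebraMap V Osh)) = Hens2.specOf X x Osh ≫ f)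

include K hx hxU hisol hVO

/-- The cohomology of the nearby fibre vanishes in degree `i` if the cohomology of the punctured strict localizations
after totally ramified base extension does. -/
theorem subsingleton_H (m : ℕ) (hm : 0 < m) (i : ℕ)
    (h : ∀ (V' : Type u) [CommRing V'] [IsDomain V'] [IsDiscreteValuationRing V'] [Algebra V V']
      (_ : TotRam V V') [IsLocalRing (Osh ⊗[V] V')],
      Subsingleton (EtCoh.H (FEt.puncturedSpec (Osh ⊗[V] V') : Scheme.{u})
        (EtCoh.const (FEt.puncturedSpec (Osh ⊗[V] V') : Scheme.{u}) (ZMod m)) i)) :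
    Subsingleton (EtCoh.H (SGA7.nearbyFibre f x Osh Ω)
      (EtCoh.const (SGA7.nearbyFibre f x Osh Ω) (ZMod m)) i) := by
  have h1 := isLocalHom_of_specOf f x Osh hVO hx
  have h2 := flat_of_specOf f x Osh hVO
  have h3 : IsLocallyNoetherian X := LocallyOfFiniteType.isLocallyNoetherian f
  have h4 : IsNoetherianRing Osh := (Groth.Agent.S0540.result (X.presheaf.stalk x) Osh).1 inferInstance
  have h5 := subsingleton_H_nearby V K Ω Osh (fun h hh => isLocallyAcyclic_of_smooth h hh) (fun y hy => by
    rw [toBase, hVO] at hy ⊢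
    exact smLike_punctured f x Osh U hxU hisol y hy) m hm i h
  have h6 : toBase V Osh = Spec.map (CommRingCat.ofHom (algebraMap (X.presheaf.stalk x) Osh)) ≫
      X.fromSpecStalk x ≫ f := by
    rw [toBase, hVO, Hens2.specOf, Category.assoc]
  rw [h6] at h5
  exact h5

/-- The nearby fibre is connected if the punctured strict localizations after totally ramified base extension are. -/
theorem connectedSpace
    (h : ∀ (V' : Type u) [CommRing V'] [IsDomain V'] [IsDiscreteValuationRing V'] [Algebra V V']
      (_ : TotRam V V') [IsLocalRing (Osh ⊗[V] V')], ConnectedSpace ↥(FEt.puncturedSpec (Osh ⊗[V] V'))) :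
    ConnectedSpace ↥(SGA7.nearbyFibre f x Osh Ω) := by
  have h1 := isLocalHom_of_specOf f x Osh hVO hx
  have h2 := flat_of_specOf f x Osh hVO
  have h3 : IsLocallyNoetherian X := LocallyOfFiniteType.isLocallyNoetherian f
  have h4 : IsNoetherianRing Osh := (Groth.Agent.S0540.result (X.presheaf.stalk x) Osh).1 inferInstance
  have h5 := connectedSpace_nearby V K Ω Osh (fun h hh => isLocallyAcyclic_of_smooth h hh) (fun y hy => by
    rw [toBase, hVO] at hy ⊢
    exact smLike_punctured f x Osh U hxU hisol y hy) h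
  have h6 : toBase V Osh = Spec.map (CommRingCat.ofHom (algebraMap (X.presheaf.stalk x) Osh)) ≫
      X.fromSpecStalk x ≫ f := by
    rw [toBase, hVO, Hens2.specOf, Category.assoc]
  rw [h6] at h5
  exact h5

/-- The nearby fibre is nonempty. -/
theorem nonempty : Nonempty ↥(SGA7.nearbyFibre f x Osh Ω) := by
  have h1 := isLocalHom_of_specOf f x Osh hVO hx
  have h2 := flat_of_specOf f x Osh hVO
  have h7 : Module.FaithfullyFlat V Osh := Module.FaithfullyFlat.of_flat_of_isLocalHom
  have h6 : toBase V Osh = Spec.map (CommRingCat.ofHom (algebraMap (X.presheaf.stalk x) Osh)) ≫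
      X.fromSpecStalk x ≫ f := by
    rw [toBase, hVO, Hens2.specOf, Category.assoc]
  obtain ⟨y, hy⟩ : ∃ y : Spec (CommRingCat.of Osh), (toBase V Osh) y = (toBase V Ω) (closedPoint Ω) :=
    PrimeSpectrum.comap_surjective_of_faithfullyFlat (A := V) (B := Osh) _
  obtain ⟨z, -⟩ := Scheme.Pullback.exists_preimage_pullback (f := toBase V Osh) (g := toBase V Ω) y (closedPoint Ω) hy
  rw [h6] at z
  exact ⟨z⟩

end

end Groth.Agent.Sga7.H762.NearbyCI
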