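import Groth.Agent.Sga7.H762.GenAcyc
import Groth.Agent.Sga7.H762.FinDVR
import Groth.Agent.Sga7.H762.Geom
import Groth.Agent.Sga7.H752.BaseExt
import Groth.Agent.EtpbcB.LimVan
import Groth.Agent.Etrest.HpullAcyc
import Groth.Agent.Etrest.IsoInv
import Groth.Agent.Etbc.H225.ConnOfH0
import Groth.Prelude.Def_SGA7I
import Mathlib.FieldTheory.IsSepClosed

/-!
# Nearby cycles at an isolated non-smooth point: reduction to finite extensions of the base
-/

set_option autoImplicit false
universe u

open CategoryTheory CategoryTheory.Limits AlgebraicGeometry IsLocalRing Opposite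
open scoped TensorProduct

namespace Groth.Agent.Sga7.H762.NearbyRed

open Groth.Agent.Etrest.StrictLoc Groth.Agent.Sga4h.Acyc Groth.Agent.Sga4h.UlaRing812
open FinDVR Geom GenAcyc Groth.Agent.Sga7.H752.BaseExt

section Transport

/-- Cohomology with constant coefficients of isomorphic schemes. -/
theorem nonempty_HIso {A B : Scheme.{u}} (e : A ≅ B) (m i : ℕ) :
    Nonempty (EtCoh.H B (EtCoh.const B (ZMod m)) i ≃+ EtCoh.H A (EtCoh.const A (ZMod m)) i) :=
  ⟨(Groth.Agent.Etrest.IsoInv.HIso e.hom (EtCoh.const B (ZMod m)) i).trans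
    (Groth.Agent.Etrest.IsoInv.HCongr (EtCore.pullConst e.hom (ZMod m)) i)⟩

theorem nonempty_HAcyc {A B : Scheme.{u}} (f : A ⟶ B) (m i : ℕ) (h : Acyc f (EtCoh.const B (ZMod m))) :
    Nonempty (EtCoh.H B (EtCoh.const B (ZMod m)) i ≃+ EtCoh.H A (EtCoh.const A (ZMod m)) i) :=
  ⟨(AddEquiv.ofBijective (EtCore.Hpull f (EtCoh.const B (ZMod m)) i)
      (Groth.Agent.Etrest.HpullAcyc.Hpull_bijective f _ h.1 h.2 i)).trans
    (Groth.Agent.Etrest.IsoInv.HCongr (EtCore.pullConst f (ZMod m)) i)⟩

end Transport

theorem isPullback_of_mono {P A S T Y : Scheme.{u}} (ι : P ⟶ A) [Mono ι] (s : A ⟶ S) (t : T ⟶ S) (l : Y ⟶ P)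
    (r : Y ⟶ T) (h : IsPullback (l ≫ ι) r s t) : IsPullback l r (ι ≫ s) t := by
  refine ⟨⟨by rw [← Category.assoc, h.w]⟩, ⟨PullbackCone.IsLimit.mk _
    (fun c => h.lift (c.fst ≫ ι) c.snd (by rw [Category.assoc, c.condition])) (fun c => ?_) (fun c => ?_)
    (fun c k h1 h2 => ?_)⟩⟩
  · rw [← cancel_mono ι, Category.assoc, h.lift_fst]
  · rw [h.lift_snd]
  · apply h.hom_ext
    · rw [h.lift_fst, ← h1, Category.assoc]
    · rw [h.lift_snd, h2]

section Base

variable (V K Ω : Type u) [CommRing V] [IsDomain V] [IsDiscreteValuationRing V] [HenselianLocalRing V]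
    [Field K] [Algebra V K] [IsFractionRing V K]
    [Field Ω] [Algebra K Ω] [Algebra V Ω] [IsScalarTower V K Ω]

omit [HenselianLocalRing V] in
theorem totRam [IsSepClosed (ResidueField V)] [CharZero (ResidueField V)] (B : Idx V Ω)
    (hinj : Function.Injective (algebraMap V Ω)) :
    haveI := B.2.2
    TotRam V B.1 := by
  have hB := B.2.2
  have hfin := B.2.1
  have hinj' : Function.Injective (algebraMap V B.1) := fun a b h =>
    hinj (congrArg (Subtype.val : B.1 → Ω) h)
  have hf : FaithfulSMul V B.1 := (faithfulSMul_iff_algebraMap_injective V B.1).2 hinj'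
  have hint : Algebra.IsIntegral V B.1 := inferInstance
  have hloc : IsLocalHom (algebraMap V B.1) := inferInstance
  refine ⟨hfin, hinj', fun y => ?_⟩
  have h1 : Algebra.IsAlgebraic (ResidueField V) (ResidueField B.1) := by
    have : Algebra.IsIntegral (ResidueField V) (ResidueField B.1) := inferInstance
    infer_instance
  have h2 : Algebra.IsSeparable (ResidueField V) (ResidueField B.1) := inferInstance
  obtain ⟨a, ha⟩ := IsSepClosed.algebraMap_surjective (ResidueField V) (ResidueField B.1) (residue B.1 y)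
  obtain ⟨a, rfl⟩ := residue_surjective a
  refine ⟨a, ?_⟩
  rw [← residue_eq_zero_iff, map_sub, ← ha, sub_eq_zero]
  rfl


omit [HenselianLocalRing V] in
include K in
theorem ker_eq_bot (A : Type u) [CommRing A] [IsLocalRing A] [Algebra V A] [IsLocalHom (algebraMap V A)]
    (y : ↥(pullback (toBase V A) (toBase V Ω))) :
    pullback.fst (toBase V A) (toBase V Ω) y ≠ closedPoint A := by
  intro h
  have h1 : (toBase V A) (closedPoint A) = closedPoint V := by
    have : IsLocalHom (CommRingCat.ofHom (algebraMap V A)).hom := inferInstanceAs (IsLocalHom (algebraMap V A))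
    exact Spec_closedPoint (R := CommRingCat.of V) (S := CommRingCat.of A) (f := CommRingCat.ofHom (algebraMap V A))
  have h2 : (toBase V A) (pullback.fst (toBase V A) (toBase V Ω) y) =
      (toBase V Ω) (pullback.snd (toBase V A) (toBase V Ω) y) := by
    rw [← Scheme.Hom.comp_apply, ← Scheme.Hom.comp_apply, pullback.condition]
  rw [h, h1] at h2
  have h3 : maximalIdeal V = (pullback.snd (toBase V A) (toBase V Ω) y).asIdeal.comap (algebraMap V Ω) :=
    congrArg PrimeSpectrum.asIdeal h2
  have h4 : (pullback.snd (toBase V A) (toBase V Ω) y).asIdeal = ⊥ :=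
    (Ideal.eq_bot_or_top _).resolve_right
      (pullback.snd (toBase V A) (toBase V Ω) y).isPrime.ne_top
  rw [h4] at h3
  refine IsDiscreteValuationRing.not_a_field V ?_
  rw [h3]
  exact (RingHom.ker_eq_bot_iff_eq_zero _).2 fun a ha =>
    algebraMap_injective V K Ω (by rw [ha, map_zero])

omit [HenselianLocalRing V] in
include K in
/-- The geometric generic fibre only meets the punctured spectrum. -/
theorem exists_iso_nearby (A : Type u) [CommRing A] [IsLocalRing A] [Algebra V A] [IsLocalHom (algebraMap V A)] :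
    Nonempty (pullback (toBase V A) (toBase V Ω) ≅
      pullback ((FEt.puncturedSpec A).ι ≫ toBase V A) (toBase V Ω)) := by
  let l : pullback (toBase V A) (toBase V Ω) ⟶ (FEt.puncturedSpec A : Scheme.{u}) :=
    IsOpenImmersion.lift (FEt.puncturedSpec A).ι (pullback.fst (toBase V A) (toBase V Ω)) (by
      rw [Scheme.Opens.range_ι]
      rintro _ ⟨y, rfl⟩
      exact ker_eq_bot V K Ω A y)
  have hl : l ≫ (FEt.puncturedSpec A).ι = pullback.fst (toBase V A) (toBase V Ω) :=
    IsOpenImmersion.lift_fac _ _ _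
  have h1 : IsPullback (l ≫ (FEt.puncturedSpec A).ι) (pullback.snd _ _) (toBase V A) (toBase V Ω) := by
    rw [hl]
    exact IsPullback.of_hasPullback _ _
  exact ⟨(isPullback_of_mono _ _ _ _ _ h1).isoPullback⟩

end Base

/-- The geometric generic fibre is the generic fibre over the integral closure. -/
theorem exists_iso_integralClosure (V Ω : Type u) [CommRing V] [Field Ω] [Algebra V Ω]
    {P : Scheme.{u}} (g : P ⟶ Spec (CommRingCat.of V)) :
    Nonempty (pullback g (toBase V Ω) ≅
      pullback (pullback.snd g (toBase V (integralClosure V Ω)))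
        (spm (algebraMap (integralClosure V Ω) Ω))) := by
  have h1 := (IsPullback.of_hasPullback (pullback.snd g (toBase V (integralClosure V Ω)))
        (spm (algebraMap (integralClosure V Ω) Ω))).flip.paste_vert
          (IsPullback.of_hasPullback g (toBase V (integralClosure V Ω))).flip
  have e : spm (algebraMap (integralClosure V Ω) Ω) ≫ toBase V (integralClosure V Ω) = toBase V Ω :=
    (Spec.map_comp (CommRingCat.ofHom (algebraMap V (integralClosure V Ω)))
      (CommRingCat.ofHom (algebraMap (integralClosure V Ω) Ω))).symm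
  rw [e] at h1
  exact ⟨h1.flip.isoPullback.symm⟩

section Limit

variable (V Ω : Type u) [CommRing V] [Field Ω] [Algebra V Ω] {X : Scheme.{u}} (f : X ⟶ Spec (CommRingCat.of V))

/-- The diagram of the schemes `X ×_V B`, `B` a finite DVR extension. -/
noncomputable abbrev diag : (Idx V Ω)ᵒᵖ ⥤ Scheme.{u} :=
  Pi1A.FGLimit.pbDiag (specDiag V Ω) (specBase V Ω) f

/-- The cone with point `X ×_V V'`, `V'` the integral closure. -/
noncomputable abbrev cone : Cone (diag V Ω f) :=
  Pi1A.FGLimit.pbCone (specDiag V Ω) (specBase V Ω) f (specCone V Ω) (toBase V (integralClosure V Ω))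
    (specCone_base V Ω)

instance isAffineHom_diag_map (i j : (Idx V Ω)ᵒᵖ) (h : i ⟶ j) :
    IsAffineHom ((diag V Ω f).map h) :=
  MorphismProperty.of_isPullback (P := @IsAffineHom)
    (Pi1A.FGLimit.pb_map_isPullback (specDiag V Ω) (specBase V Ω) f h).flip (isAffineHom_specDiag_map V Ω h)

instance compactSpace_diag_obj [QuasiCompact f] (j : (Idx V Ω)ᵒᵖ) :
    CompactSpace ((diag V Ω f).obj j) := by
  change CompactSpace ↥(pullback f (toBase V j.unop.1))
  exact QuasiCompact.compactSpace_of_compactSpace (pullback.snd f (toBase V j.unop.1))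

instance quasiSeparatedSpace_diag_obj [QuasiSeparated f] (j : (Idx V Ω)ᵒᵖ) :
    QuasiSeparatedSpace ((diag V Ω f).obj j) := by
  change QuasiSeparatedSpace ↥(pullback f (toBase V j.unop.1))
  exact quasiSeparatedSpace_of_quasiSeparated (pullback.snd f (toBase V j.unop.1))

variable [IsDirected (Idx V Ω) (· ≤ ·)] [Nonempty (Idx V Ω)]

/-- `X ×_V V'` is the limit of the `X ×_V B`. -/
theorem nonempty_isLimit (hm : ∀ x : integralClosure V Ω, ∃ B : Idx V Ω, (x : Ω) ∈ B.1) :
    Nonempty (IsLimit (cone V Ω f)) := by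
  obtain ⟨hc⟩ := nonempty_ringIsColimit V Ω hm
  have : IsConnected (Idx V Ω)ᵒᵖ := IsCofiltered.isConnected _
  have hs : IsLimit (specCone V Ω) := isLimitOfPreserves Scheme.Spec hc.op
  exact ⟨Pi1A.FGLimit.pbIsLimit (specDiag V Ω) (specBase V Ω) f (specCone V Ω)
    (toBase V (integralClosure V Ω)) (specCone_base V Ω) hs⟩

omit [IsDirected (Idx V Ω) (· ≤ ·)] [Nonempty (Idx V Ω)] in
theorem surjective_cone_π (j : (Idx V Ω)ᵒᵖ) : Function.Surjective ((cone V Ω f).π.app j) := by
  have h1 : Surjective ((specCone V Ω).π.app j) := by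
    let φ : j.unop.1 →+* integralClosure V Ω := (Subalgebra.inclusion (le_integralClosure j.unop)).toRingHom
    have h2 : φ.IsIntegral := by
      have h3 : (φ.comp (algebraMap V j.unop.1)).IsIntegral := by
        have : Algebra.IsIntegral V (integralClosure V Ω) := inferInstance
        exact algebraMap_isIntegral_iff.2 this
      exact RingHom.IsIntegral.tower_top _ _ h3
    have h4 : Function.Injective φ := Subalgebra.inclusion_injective _
    exact ⟨RingHom.IsIntegral.comap_surjective h2 h4⟩
  have h2 : Surjective ((cone V Ω f).π.app j) :=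
    MorphismProperty.of_isPullback (P := @Surjective)
      (Pi1A.FGLimit.pbCone_isPullback (specDiag V Ω) (specBase V Ω) f (specCone V Ω)
        (toBase V (integralClosure V Ω)) (specCone_base V Ω) j).flip h1
  exact h2.surj

/-- Vanishing of cohomology in the limit. -/
theorem subsingleton_H (hm : ∀ x : integralClosure V Ω, ∃ B : Idx V Ω, (x : Ω) ∈ B.1)
    [QuasiCompact f] [QuasiSeparated f] (m i : ℕ)
    (h : ∀ B : Idx V Ω, Subsingleton (EtCoh.H (pullback f (toBase V B.1))
      (EtCoh.const (pullback f (toBase V B.1)) (ZMod m)) i)) :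
    Subsingleton (EtCoh.H (pullback f (toBase V (integralClosure V Ω)))
      (EtCoh.const (pullback f (toBase V (integralClosure V Ω))) (ZMod m)) i) := by
  obtain ⟨hc⟩ := nonempty_isLimit V Ω f hm
  have h1 := Groth.Agent.EtpbcB.LimVan.subsingleton_H (diag V Ω f) (fun h => isAffineHom_diag_map V Ω f _ _ h)
    (fun a => compactSpace_diag_obj V Ω f a) (fun a => quasiSeparatedSpace_diag_obj V Ω f a) (cone V Ω f) hc
    (fun j => Pi1A.FGLimit.pbFst (specDiag V Ω) (specBase V Ω) f j)
    (fun h => Pi1A.FGLimit.pbDiag_map_fst _ _ _ _)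
    (pullback.fst f (toBase V (integralClosure V Ω)))
    (fun j => Pi1A.FGLimit.pbCone_fst _ _ _ _ _ _ _) (EtCoh.const X (ZMod m)) i (fun j => by
      have h2 := h j.unop
      exact ((Groth.Agent.Etrest.IsoInv.HCongr
        (EtCore.pullConst (pullback.fst f (toBase V j.unop.1)) (ZMod m)) i).toEquiv.subsingleton_congr).2 h2)
  exact ((Groth.Agent.Etrest.IsoInv.HCongr (EtCore.pullConst (pullback.fst f (toBase V (integralClosure V Ω)))
    (ZMod m)) i).toEquiv.subsingleton_congr).1 h1

/-- Connectedness in the limit. -/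
theorem connectedSpace (hm : ∀ x : integralClosure V Ω, ∃ B : Idx V Ω, (x : Ω) ∈ B.1)
    [QuasiCompact f] (h : ∀ B : Idx V Ω, ConnectedSpace ↥(pullback f (toBase V B.1))) :
    ConnectedSpace ↥(pullback f (toBase V (integralClosure V Ω))) := by
  obtain ⟨hc⟩ := nonempty_isLimit V Ω f hm
  exact connectedSpace_of_isLimit (diag V Ω f) (cone V Ω f) hc (surjective_cone_π V Ω f) (fun j => h j.unop)

end Limit

theorem SmLike.smoothLike (hLA : ∀ {W S : Scheme.{u}} (h : W ⟶ S), Smooth h → EtRest.IsLocallyAcyclic h)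
    {P S : Scheme.{u}} {g : P ⟶ S} {y : P} (h : SmLike g y) : SmoothLike g y := by
  obtain ⟨P', W, ι, π, h, y', h1, h2, h3, h4, h5⟩ := h
  exact ⟨P', W, ι, π, h, y', h1, h2, hLA h h3, h4, h5⟩

section Main

variable (V K Ω : Type u) [CommRing V] [IsDomain V] [IsDiscreteValuationRing V] [HenselianLocalRing V]
    [IsSepClosed (ResidueField V)] [CharZero (ResidueField V)]
    [Field K] [Algebra V K] [IsFractionRing V K]
    [Field Ω] [Algebra K Ω] [IsSepClosure K Ω] [Algebra V Ω] [IsScalarTower V K Ω]

include K in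
/-- Cohomology over the geometric generic point is cohomology over the integral closure. -/
theorem nonempty_HEquiv
    (hLA : ∀ {W S : Scheme.{u}} (h : W ⟶ S), Smooth h → EtRest.IsLocallyAcyclic h)
    {P : Scheme.{u}} (g : P ⟶ Spec (CommRingCat.of V))
    (hsm : ∀ y : P, g y = closedPoint V → SmLike g y) (m : ℕ) (hm : 0 < m) (i : ℕ) :
    Nonempty (EtCoh.H (pullback g (toBase V (integralClosure V Ω)))
        (EtCoh.const (pullback g (toBase V (integralClosure V Ω))) (ZMod m)) i ≃+
      EtCoh.H (pullback g (toBase V Ω)) (EtCoh.const (pullback g (toBase V Ω)) (ZMod m)) i) := by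
  have hsep : Algebra.IsSeparable K Ω := IsSepClosure.separable
  have halg : Algebra.IsAlgebraic K Ω := Algebra.IsSeparable.isAlgebraic K Ω
  have hcl : IsSepClosed Ω := IsSepClosure.sep_closed K
  have hh : HenselianLocalRing (integralClosure V Ω) := henselianLocalRing V Ω
  have hrs : IsSepClosed (ResidueField (integralClosure V Ω)) := isSepClosed_residueField V Ω
  have hloc : IsLocalHom (algebraMap V (integralClosure V Ω)) := isLocalHom V Ω
  have halgV : Algebra.IsAlgebraic V Ω := (IsFractionRing.comap_isAlgebraic_iff (A := V) (K := K) (C := Ω)).2 halg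
  have hfr : IsFractionRing (integralClosure V Ω) Ω :=
    integralClosure.isFractionRing_of_algebraic fun a ha => algebraMap_injective V K Ω (by rw [ha, map_zero])
  have hacyc := acyc (Vb := integralClosure V Ω) (Ω := Ω) (pullback.snd g (toBase V (integralClosure V Ω)))
    (fun p hp => (eq_bot_or_eq_maximalIdeal V K Ω p.asIdeal).resolve_right fun h => hp (PrimeSpectrum.ext h))
    (fun y hy => by
      refine SmLike.smoothLike hLA (SmLike.baseChange g _ y (hsm _ ?_))
      have h1 : (toBase V (integralClosure V Ω)) (closedPoint (integralClosure V Ω)) = closedPoint V := by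
        have : IsLocalHom (CommRingCat.ofHom (algebraMap V (integralClosure V Ω))).hom := hloc
        exact Spec_closedPoint (R := CommRingCat.of V) (S := CommRingCat.of (integralClosure V Ω))
          (f := CommRingCat.ofHom (algebraMap V (integralClosure V Ω)))
      rw [← h1, ← hy, ← Scheme.Hom.comp_apply, ← Scheme.Hom.comp_apply, pullback.condition])
    m (by
      have : CharZero (ResidueField (integralClosure V Ω)) :=
        charZero_of_injective_algebraMap (ResidueField.map (algebraMap V (integralClosure V Ω))).injective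
      exact_mod_cast hm.ne')
  obtain ⟨e1⟩ := exists_iso_integralClosure V Ω g
  obtain ⟨e2⟩ := nonempty_HAcyc _ m i hacyc
  obtain ⟨e3⟩ := nonempty_HIso e1 m i
  exact ⟨e2.trans e3⟩

section Punct

variable (A : Type u) [CommRing A] [IsLocalRing A] [IsNoetherianRing A] [Algebra V A] [IsLocalHom (algebraMap V A)]
  [Module.Flat V A]

omit [IsDomain V] [IsDiscreteValuationRing V] [HenselianLocalRing V]
  [IsSepClosed (ResidueField V)] [CharZero (ResidueField V)] [IsLocalHom (algebraMap V A)] [Module.Flat V A] in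
theorem quasiCompact_punctured : QuasiCompact ((FEt.puncturedSpec A).ι ≫ toBase V A) := by
  have : IsNoetherian (Spec (CommRingCat.of A)) := inferInstance
  infer_instance

variable (hLA : ∀ {W S : Scheme.{u}} (h : W ⟶ S), Smooth h → EtRest.IsLocallyAcyclic h)
  (hsm : ∀ y : (FEt.puncturedSpec A : Scheme.{u}), ((FEt.puncturedSpec A).ι ≫ toBase V A) y = closedPoint V →
      SmLike ((FEt.puncturedSpec A).ι ≫ toBase V A) y)

include K hLA hsm

/-- **Nearby cycles and finite extensions, vanishing.** -/
theorem subsingleton_H_nearby (m : ℕ) (hm : 0 < m) (i : ℕ)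
    (h : ∀ (V' : Type u) [CommRing V'] [IsDomain V'] [IsDiscreteValuationRing V'] [Algebra V V']
      (_ : TotRam V V') [IsLocalRing (A ⊗[V] V')],
      Subsingleton (EtCoh.H (FEt.puncturedSpec (A ⊗[V] V') : Scheme.{u})
        (EtCoh.const (FEt.puncturedSpec (A ⊗[V] V') : Scheme.{u}) (ZMod m)) i)) :
    Subsingleton (EtCoh.H (pullback (toBase V A) (toBase V Ω))
      (EtCoh.const (pullback (toBase V A) (toBase V Ω)) (ZMod m)) i) := by
  have hsep : Algebra.IsSeparable K Ω := IsSepClosure.separable
  have hdir : IsDirected (Idx V Ω) (· ≤ ·) := isDirected V K Ω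
  have hmem := exists_mem V K Ω
  have hne : Nonempty (Idx V Ω) := ⟨(hmem 0).choose⟩
  have hqc := quasiCompact_punctured V A
  have key : Subsingleton (EtCoh.H (pullback ((FEt.puncturedSpec A).ι ≫ toBase V A)
      (toBase V (integralClosure V Ω)))
      (EtCoh.const (pullback ((FEt.puncturedSpec A).ι ≫ toBase V A)
      (toBase V (integralClosure V Ω))) (ZMod m)) i) := by
    refine subsingleton_H V Ω ((FEt.puncturedSpec A).ι ≫ toBase V A) hmem m i fun B => ?_
    have hB := B.2.2
    have htr := totRam V Ω B (algebraMap_injective V K Ω)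
    have hint := htr.isIntegral
    have hloc : IsLocalRing (A ⊗[V] B.1) :=
      Flat2G.EtUnibranch.isLocalRing_tensor (A := V) (S := A) (R' := B.1) htr.resPI
    obtain ⟨a, b, hP⟩ := exists_isPullback_punctured V A B.1
    obtain ⟨e⟩ := nonempty_HIso hP.isoPullback.symm m i
    have := h B.1 htr
    exact e.symm.toEquiv.subsingleton
  obtain ⟨e1⟩ := nonempty_HEquiv V K Ω hLA _ hsm m hm i
  obtain ⟨e2⟩ := exists_iso_nearby V K Ω A
  obtain ⟨e3⟩ := nonempty_HIso e2 m i
  exact (e1.trans e3).symm.toEquiv.subsingleton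

/-- **Nearby cycles and finite extensions, connectedness.** -/
theorem connectedSpace_nearby
    (h : ∀ (V' : Type u) [CommRing V'] [IsDomain V'] [IsDiscreteValuationRing V'] [Algebra V V']
      (_ : TotRam V V') [IsLocalRing (A ⊗[V] V')], ConnectedSpace ↥(FEt.puncturedSpec (A ⊗[V] V'))) :
    ConnectedSpace ↥(pullback (toBase V A) (toBase V Ω)) := by
  have hsep : Algebra.IsSeparable K Ω := IsSepClosure.separable
  have hdir : IsDirected (Idx V Ω) (· ≤ ·) := isDirected V K Ω
  have hmem := exists_mem V K Ω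
  have hne : Nonempty (Idx V Ω) := ⟨(hmem 0).choose⟩
  have hqc := quasiCompact_punctured V A
  have key : ConnectedSpace ↥(pullback ((FEt.puncturedSpec A).ι ≫ toBase V A)
      (toBase V (integralClosure V Ω))) := by
    refine connectedSpace V Ω ((FEt.puncturedSpec A).ι ≫ toBase V A) hmem fun B => ?_
    have hB := B.2.2
    have htr := totRam V Ω B (algebraMap_injective V K Ω)
    have hint := htr.isIntegral
    have hloc : IsLocalRing (A ⊗[V] B.1) :=
      Flat2G.EtUnibranch.isLocalRing_tensor (A := V) (S := A) (R' := B.1) htr.resPI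
    obtain ⟨a, b, hP⟩ := exists_isPullback_punctured V A B.1
    have := h B.1 htr
    exact hP.isoPullback.hom.homeomorph.connectedSpace_iff.1 this
  obtain ⟨e1⟩ := nonempty_HEquiv V K Ω hLA _ hsm 2 two_pos 0
  obtain ⟨e2⟩ := exists_iso_nearby V K Ω A
  obtain ⟨e3⟩ := nonempty_HIso e2 2 0
  obtain ⟨e4⟩ := Groth.Agent.Etrest.SHPoint.nonempty_H0_const (pullback ((FEt.puncturedSpec A).ι ≫ toBase V A)
      (toBase V (integralClosure V Ω))) (ZMod 2)
  exact (Groth.Agent.Etbc.H225.ConnOfH0.connectedSpace_of_H0 _ (ZMod 2) ⟨((e1.trans e3).symm.trans e4)⟩).2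

end Punct

end Main

end Groth.Agent.Sga7.H762.NearbyRed
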